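import Mathlib
import Cfsg.Agent.Nodes.RGDLib

/-!
# The odd part: what an instance has to give

* `Lv X i` : the rank one subgroup `⟨X_i, X_{-i}⟩`;
* `Inst G` : a root group datum of `G` in odd characteristic, generated by its root groups, whose torus is the
  direct product of the tori of the rank one subgroups, all of them of type `SL(2, F)`.

`Main.noDouble : Inst G → NoDouble G`.
-/

set_option autoImplicit false
set_option linter.dupNamespace false

namespace Cfsg.Agent.KFacts.MulOdd.Inst

open CoxeterSystem Cfsg.Agent.ChevalleyStructure.CoxeterGeom Cfsg.Agent.Tits.Roots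
  Cfsg.Agent.Nodes.Reps Cfsg.Agent.Nodes.BNOf Cfsg.Agent.Nodes.RGDLib

/-- The rank one subgroup of a simple root. -/
def Lv {I Y : Type*} [DecidableEq I] [Group Y] (X : (I → ℤ) → Subgroup Y) (i : I) : Subgroup Y :=
  X (sr i) ⊔ X (-sr i)

/-- The subgroup `P` is the image of `SL(2, F)`, `|F|` odd. -/
def IsSLTwo {Y : Type*} [Group Y] (P : Subgroup Y) : Prop :=
  ∃ (F : Type) (_ : Field F) (_ : Finite F) (φ : Matrix.SpecialLinearGroup (Fin 2) F →* Y),
    Odd (Nat.card F) ∧ Function.Injective φ ∧ φ.range = P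

/-- The data of an instance. -/
structure Datum {I W Y : Type*} [Fintype I] [DecidableEq I] [Group W] [Group Y] {M : CoxeterMatrix I}
    (cs : CoxeterSystem M W) {A : I → I → ℤ} (h : IsCartan M A) (p : ℕ) (T : Subgroup Y) (n : I → Y)
    (X : (I → ℤ) → Subgroup Y) : Prop extends RGD cs h p T n X where
  gen : G1 cs h X = ⊤
  prime : p.Prime
  odd : p ≠ 2
  card_le : ∏ i, Nat.card ↥(T ⊓ Lv X i) ≤ Nat.card T
  slt : ∀ i, IsSLTwo (Lv X i)

/-- `G` has such a datum. -/
def Inst (G : Type*) [Group G] : Prop :=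
  ∃ (I W : Type) (_ : Fintype I) (_ : DecidableEq I) (_ : Group W) (_ : Finite W) (M : CoxeterMatrix I)
    (cs : CoxeterSystem M W) (A : I → I → ℤ) (h : IsCartan M A) (p : ℕ) (T : Subgroup G) (n : I → G)
    (X : (I → ℤ) → Subgroup G), Datum cs h p T n X

end Cfsg.Agent.KFacts.MulOdd.Inst
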