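import Cfsg.Agent.KFacts.MulOdd.NodeInst
import Cfsg.Agent.Nodes.RGDChev
import Cfsg.Agent.S1035

/-!
# The instances `G₂(q), F₄(q), E₆(q), E₈(q)`, `q` odd (`3 ∤ q - 1` for `E₆`)

`inst_G2, inst_F4, inst_E6, inst_E8`.
-/

set_option autoImplicit false
set_option linter.unusedSectionVars false
set_option Elab.async false

namespace Cfsg.Agent.KFacts.MulOdd.InstChev

open CoxeterSystem Cfsg.Agent.ChevalleyStructure.CoxeterGeom Cfsg.Agent.Tits.Roots Cfsg.Agent.Tits.Core
  Cfsg.Agent.Tits.RootComb Cfsg.Agent.Nodes.Comb Cfsg.Agent.Nodes.Reps Cfsg.Agent.Nodes.BNOf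
  Cfsg.Agent.Nodes.BNOf.RGD
open Cfsg.Lie Cfsg.Agent.ChevalleyStructure Cfsg.Agent.ChevalleyStructure.Elts
  Cfsg.Agent.ChevalleyStructure.NPerm Cfsg.Agent.ChevalleyStructure.CoxeterGeomTypes Cfsg.Agent.Nodes.RGDChev
  Cfsg.Agent.Nodes.RGDFoldSL Cfsg.Agent.KFacts.MulOdd.Node Cfsg.Agent.KFacts.MulOdd.Inst
open Cfsg.Agent.ChevalleyStructure.SL2Hom (up lo mem_closure_SL2)
open scoped MatrixGroups

/-! ### The parity of the exponents -/

/-- Every simple root has an odd pairing with some other simple root. -/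
def parity (D : ChevalleyDatum) (l : ℕ) : Bool :=
  (List.range l).all fun i => (List.range l).any fun j =>
    decide (D.simple j < D.nroots) && decide (HMatDiagAll.expo D (D.simple i) (D.simple j) % 2 = 1)

theorem parity_spec {D : ChevalleyDatum} {l : ℕ} (h : parity D l = true) {i : ℕ} (hi : i < l) :
    ∃ s, s < D.nroots ∧ HMatDiagAll.expo D (D.simple i) s % 2 = 1 := by
  unfold parity at h
  rw [List.all_eq_true] at h
  have h1 := h i (List.mem_range.2 hi)
  rw [List.any_eq_true] at h1
  obtain ⟨j, -, h2⟩ := h1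
  rw [Bool.and_eq_true, decide_eq_true_iff, decide_eq_true_iff] at h2
  exact ⟨_, h2⟩

theorem parity_G2 : parity chevG2 2 = true := by decide +kernel

theorem parity_F4 : parity chevF4 4 = true := by decide +kernel

theorem parity_E6 : parity chevE6 6 = true := by decide +kernel

theorem parity_E8 : parity chevE8 8 = true := by decide +kernel

theorem zpow_odd {K : Type*} [Field K] {e : ℤ} (he : e % 2 = 1) : (-1 : K) ^ e = -1 :=
  Odd.neg_one_zpow (Int.odd_iff.2 he)

section

variable {D : ChevalleyDatum} {l : ℕ} {M : CoxeterMatrix (Fin l)} {W : Type*} [Group W]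
  (hp : IsType D l M) (cs : CoxeterSystem M W)

theorem hG_neg_one_ne {D : ChevalleyDatum} (hD : InList D) {K : Type*} [Field K] (h2 : (2 : K) ≠ 0) {r s : ℕ}
    (hr : r < D.nroots) (hs : s < D.nroots) (he : HMatDiagAll.expo D r s % 2 = 1) :
    hG hD r (-1 : K) ≠ 1 := by
  intro h0
  have h1 : D.hMat K r (-1) = 1 := by rw [← coe_hG hD, h0, Units.val_one]
  rw [HMatDiagAll.hMat_eq_diagonal hD hr (neg_ne_zero.2 one_ne_zero)] at h1
  have h3 := congrFun (congrFun h1 (Sum.inr ⟨s, hs⟩)) (Sum.inr ⟨s, hs⟩)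
  rw [Matrix.diagonal_apply_eq, Matrix.one_apply_eq, Sum.elim_inr, zpow_odd he] at h3
  apply h2
  linear_combination -h3

/-- The homomorphism `SL(2, K) → D.group K` of the node `i`. -/
noncomputable def psiG (hp : IsType D l M) (K : Type) [Field K] (i : Fin l) : SL(2, K) →* ↥(D.group K) :=
  (psi hp.inList K (D.simple i)).codRestrict (D.group K) fun g => by
    have h := simple_lt hp.inList (lt_rank hp i)
    have h1 := psi_mem hp.inList h g
    rw [← XV_sr hp, ← XV_neg_sr hp] at h1
    exact sup_le (XV_le_group hp _) (XV_le_group hp _) h1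

theorem nd (hpar : parity D l = true) (K : Type) [Field K] (h2 : (2 : K) ≠ 0) (i : Fin l) :
    Nd ((D.diagonalSubgroup K).subgroupOf (D.group K))
      (fun i => (⟨nn hp K i, nn_mem_group hp i⟩ : ↥(D.group K)))
      (fun x => (XV D l K x).subgroupOf (D.group K)) i (psiG hp K i) := by
  have h := simple_lt hp.inList (lt_rank hp i)
  constructor
  · rintro ⟨y, hy⟩
    rw [Subgroup.mem_subgroupOf, XV_sr hp]
    show y ∈ D.rootSubgroup K (D.simple i) ↔ _
    rw [mem_rootSubgroup_iff hp.inList]
    constructor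
    · rintro ⟨t, rfl⟩
      exact ⟨t, Subtype.ext (psi_up hp.inList h t)⟩
    · rintro ⟨t, ht⟩
      have h1 : psi hp.inList K (D.simple i) (up t) = y := congrArg Subtype.val ht
      exact ⟨t, by rw [← h1, psi_up hp.inList h]⟩
  · intro a ha
    have h1 : psi hp.inList K (D.simple i) (up a) = 1 := congrArg Subtype.val ha
    rw [psi_up hp.inList h] at h1
    have h3 : xG hp.inList (D.simple i) a = xG hp.inList (D.simple i) 0 := by rw [h1, xG_zero]
    exact xG_injective hp.inList h h3
  · intro c hc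
    rw [Subgroup.mem_subgroupOf]
    show psi hp.inList K (D.simple i) (hS c) ∈ _
    rw [psi_hS hp.inList h]
    exact hG_mem_diagonal hp.inList h hc
  · exact Subtype.ext (psi_wS hp.inList h 1)
  · intro h0
    have h1 : psi hp.inList K (D.simple i) (-1) = 1 := congrArg Subtype.val h0
    rw [← hS_neg_one, psi_hS hp.inList h] at h1
    obtain ⟨s, hs, he⟩ := parity_spec hpar i.2
    exact hG_neg_one_ne hp.inList h2 h hs he h1

theorem two_ne {K : Type*} [Field K] {p : ℕ} [CharP K p] (hp2 : p ≠ 2) [Finite K] : (2 : K) ≠ 0 := by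
  have hpp : p.Prime := CharP.char_is_prime K p
  intro h0
  have h1 : ((2 : ℕ) : K) = 0 := by exact_mod_cast h0
  rw [CharP.cast_eq_zero_iff K p] at h1
  exact hp2 ((Nat.prime_dvd_prime_iff_eq hpp Nat.prime_two).1 h1)

theorem odd_card {K : Type*} [Field K] {p : ℕ} [CharP K p] (hp2 : p ≠ 2) [Finite K] : Odd (Nat.card K) := by
  have : Fintype K := Fintype.ofFinite K
  rw [Nat.card_eq_fintype_card]
  have h1 : ringChar K ≠ 2 := fun h0 => hp2 ((ringChar.eq K p).symm.trans h0)
  exact Nat.odd_iff.2 (FiniteField.odd_card_of_char_ne_two h1)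

include hp in
theorem inst_group (hpar : parity D l = true) (K : Type) [Field K] [Finite K] (p : ℕ) [CharP K p]
    (hp2 : p ≠ 2) (hcard : (Nat.card K - 1) ^ l ≤ Nat.card (D.diagonalSubgroup K)) : Inst ↥(D.group K) := by
  have hpp : p.Prime := CharP.char_is_prime K p
  have : Fact p.Prime := ⟨hpp⟩
  have : Finite M.Group := finite_W hp M.toCoxeterSystem
  have h2 : (2 : K) ≠ 0 := two_ne hp2
  refine ⟨Fin l, M.Group, inferInstance, inferInstance, inferInstance, inferInstance, M, M.toCoxeterSystem,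
    cartanOf D l, hp.isCartan, p, (D.diagonalSubgroup K).subgroupOf (D.group K),
    (fun i => (⟨nn hp K i, nn_mem_group hp i⟩ : ↥(D.group K))),
    (fun x => (XV D l K x).subgroupOf (D.group K)), ?_⟩
  refine datum_of_nd (rgd (K := K) hp M.toCoxeterSystem p) (G1_eq_top hp M.toCoxeterSystem) hpp hp2
    (fun _ => K) (fun i => psiG hp K i) (nd hp hpar K h2) (fun _ => odd_card hp2) ?_
  rw [Finset.prod_const, Finset.card_univ, Fintype.card_fin]
  refine hcard.trans (le_of_eq ?_)
  exact (Nat.card_congr (Subgroup.subgroupOfEquivOfLe (diagonal_le_group hp.inList K)).toEquiv).symm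

end

variable (K : Type) [Field K] [Finite K] (p : ℕ) [CharP K p] (hp2 : p ≠ 2)

include hp2

theorem inst_G2 : Inst ↥(chevG2.group K) := by
  have := Fintype.ofFinite K
  have hp : IsType chevG2 2 CoxeterMatrix.G₂ := by simp [IsType, typeList]
  refine inst_group hp parity_G2 K p hp2 ?_
  have h1 := Cfsg.Agent.S1035.result (F := K) (q := Fintype.card K) rfl (chevG2, 1) (by simp)
  rw [one_mul] at h1
  refine le_of_eq ?_
  rw [← hp.rank_eq, Nat.card_eq_fintype_card]
  exact h1.symm

theorem inst_F4 : Inst ↥(chevF4.group K) := by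
  have := Fintype.ofFinite K
  have hp : IsType chevF4 4 CoxeterMatrix.F₄ := by simp [IsType, typeList]
  refine inst_group hp parity_F4 K p hp2 ?_
  have h1 := Cfsg.Agent.S1035.result (F := K) (q := Fintype.card K) rfl (chevF4, 1) (by simp)
  rw [one_mul] at h1
  refine le_of_eq ?_
  rw [← hp.rank_eq, Nat.card_eq_fintype_card]
  exact h1.symm

theorem inst_E8 : Inst ↥(chevE8.group K) := by
  have := Fintype.ofFinite K
  have hp : IsType chevE8 8 CoxeterMatrix.E₈ := by simp [IsType, typeList]
  refine inst_group hp parity_E8 K p hp2 ?_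
  have h1 := Cfsg.Agent.S1035.result (F := K) (q := Fintype.card K) rfl (chevE8, 1) (by simp)
  rw [one_mul] at h1
  refine le_of_eq ?_
  rw [← hp.rank_eq, Nat.card_eq_fintype_card]
  exact h1.symm

theorem inst_E6 (h3 : Nat.gcd 3 (Nat.card K - 1) = 1) : Inst ↥(chevE6.group K) := by
  have := Fintype.ofFinite K
  have hp : IsType chevE6 6 CoxeterMatrix.E₆ := by simp [IsType, typeList]
  refine inst_group hp parity_E6 K p hp2 ?_
  have h1 := Cfsg.Agent.S1035.result (F := K) (q := Fintype.card K) rfl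
    (chevE6, Nat.gcd 3 (Fintype.card K - 1)) (by simp)
  rw [Nat.card_eq_fintype_card] at h3
  simp only [h3, one_mul] at h1
  refine le_of_eq ?_
  rw [← hp.rank_eq, Nat.card_eq_fintype_card]
  exact h1.symm

end Cfsg.Agent.KFacts.MulOdd.InstChev
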