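import Cfsg.Agent.KFacts.MulOdd.InstChev
import Cfsg.Agent.Nodes.RGDTwNode
import Cfsg.Agent.S1102
import Cfsg.Agent.S1106

/-!
# The instances `³D₄(q)`, `²E₆(q)`, `q` odd (`3 ∤ q + 1` for `²E₆`)

`inst_D4, inst_E6`.
-/

set_option autoImplicit false
set_option linter.unusedSectionVars false
set_option maxHeartbeats 400000
set_option Elab.async false

namespace Cfsg.Agent.KFacts.MulOdd.InstTw

open CoxeterSystem Cfsg.Agent.ChevalleyStructure.CoxeterGeom Cfsg.Agent.Tits.Roots Cfsg.Agent.Tits.Core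
  Cfsg.Agent.Tits.RootComb Cfsg.Agent.Nodes.Comb Cfsg.Agent.Nodes.Reps Cfsg.Agent.Nodes.BNOf
  Cfsg.Agent.Nodes.BNOf.RGD
open Cfsg.Lie Cfsg.Agent.ChevalleyStructure Cfsg.Agent.ChevalleyStructure.Elts
  Cfsg.Agent.Nodes.RGDChev Cfsg.Agent.Nodes.RGDFold Cfsg.Agent.Nodes.RGDFoldSL
  Cfsg.Agent.KFacts.MulOdd.Node Cfsg.Agent.KFacts.MulOdd.Inst
open Cfsg.Agent.ChevalleyStructure.SL2Hom (up lo mem_closure_SL2)
open scoped MatrixGroups

/-! ### The parity of the exponents -/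

/-- Every orbit has an odd pairing with some root. -/
def parityTw (D : ChevalleyDatum) {m : ℕ} (rep : Fin m → ℕ) (rest : Fin m → List ℕ) : Bool :=
  (List.finRange m).all fun i => (List.finRange m).any fun j =>
    decide (rep j < D.nroots) &&
      decide (((rep i :: rest i).map fun s => HMatDiagAll.expo D s (rep j)).sum % 2 = 1)

theorem parityTw_spec {D : ChevalleyDatum} {m : ℕ} {rep : Fin m → ℕ} {rest : Fin m → List ℕ}
    (h : parityTw D rep rest = true) (i : Fin m) :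
    ∃ t, t < D.nroots ∧ ((rep i :: rest i).map fun s => HMatDiagAll.expo D s t).sum % 2 = 1 := by
  unfold parityTw at h
  rw [List.all_eq_true] at h
  have h1 := h i (List.mem_finRange i)
  rw [List.any_eq_true] at h1
  obtain ⟨j, -, h2⟩ := h1
  rw [Bool.and_eq_true, decide_eq_true_iff, decide_eq_true_iff] at h2
  exact ⟨_, h2⟩

theorem parity_D4 : parityTw chevD4 Nodes.RGDTwNode.D4.rep Nodes.RGDTwNode.D4.rest = true := by
  decide +kernel

theorem parity_E6 : parityTw chevE6 Nodes.RGDTwNode.E6.rep Nodes.RGDTwNode.E6.rest = true := by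
  decide +kernel

section Gen

theorem coe_hv_neg_one {D : ChevalleyDatum} (hD : InList D) {K : Type*} [Field K] (φ : K →+* K) {o : List ℕ}
    (ho : ∀ s ∈ o, s < D.nroots) :
    ((hv (psi hD K) φ o (hS (-1)) : GL D.Idx K) : Matrix D.Idx D.Idx K) =
      Matrix.diagonal (Sum.elim (fun _ => (1 : K)) (fun t : Fin D.nroots =>
        (-1 : K) ^ (o.map fun s => HMatDiagAll.expo D s t).sum)) := by
  induction o with
  | nil =>
    show ((1 : GL D.Idx K) : Matrix D.Idx D.Idx K) = _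
    rw [Units.val_one, ← Matrix.diagonal_one]
    congr 1
    funext j
    rcases j with j | j
    · rfl
    · simp
  | cons s o ih =>
    have e : hv (psi hD K) φ (s :: o) (hS (-1)) = psi hD K s (hS (-1)) * hv (psi hD K) φ o (hS (-1)) := by
      show psi hD K s (hS (-1)) * hv (psi hD K) φ o (Matrix.SpecialLinearGroup.map φ (hS (-1))) = _
      rw [map_hS, map_neg, map_one]
    have hs := ho s List.mem_cons_self
    rw [e, Units.val_mul, ih fun s' hs' => ho s' (List.mem_cons_of_mem _ hs'), psi_hS hD hs, coe_hG,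
      HMatDiagAll.hMat_eq_diagonal hD hs (neg_ne_zero.2 one_ne_zero), Matrix.diagonal_mul_diagonal]
    congr 1
    funext j
    rcases j with j | j
    · simp
    · rw [Sum.elim_inr, Sum.elim_inr, Sum.elim_inr, List.map_cons, List.sum_cons,
        zpow_add₀ (neg_ne_zero.2 one_ne_zero)]

theorem odd_card_Fx {K : Type} [Field K] [Finite K] {p : ℕ} [CharP K p] (hp2 : p ≠ 2) (φ : K →+* K) (k : ℕ) :
    Odd (Nat.card (Fx φ k)) := by
  have : CharP (Fx φ k) p := (RingHom.charP_iff (Fx φ k).subtype (Fx φ k).subtype_injective p).2 inferInstance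
  exact InstChev.odd_card (p := p) hp2

theorem card_Fx_le {K : Type} [Field K] [Finite K] (φ : K →+* K) (k : ℕ) :
    Nat.card (Fx φ k) ≤ Nat.card K := Nat.card_le_card_of_injective _ (Fx φ k).subtype_injective

theorem card_Fx_one {K : Type} [Field K] [Fintype K] {q : ℕ} (hq : 1 < q) {n : ℕ}
    (hK : Fintype.card K = q ^ n) {φ : K →+* K} (hφ : ∀ x, φ x = x ^ q) :
    Nat.card (Fx φ 1) - 1 ≤ q - 1 := by
  rw [← Nat.card_units, ← D4H1.card_fixed hq hK hφ]
  refine Nat.card_le_card_of_injective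
    (fun u => (⟨Units.map ((Fx φ 1).subtype : Fx φ 1 →* K) u, ?_⟩ : {b : Kˣ // φ b = b})) ?_
  · exact mem_Fx.1 (u : Fx φ 1).2
  · intro u v huv
    have h1 : Units.map ((Fx φ 1).subtype : Fx φ 1 →* K) u = Units.map ((Fx φ 1).subtype : Fx φ 1 →* K) v :=
      congrArg Subtype.val huv
    have h2 : (((u : Fx φ 1)) : K) = ((v : Fx φ 1) : K) := congrArg (fun w : Kˣ => (w : K)) h1
    exact Units.ext (Subtype.ext h2)

end Gen

section Fold

variable {D : ChevalleyDatum} {l : ℕ} {M' : CoxeterMatrix (Fin l)} {hp : IsType D l M'} {K : Type} [Field K]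
  {m : ℕ} {M : CoxeterMatrix (Fin m)} {W : Type*} [Group W] (cs : CoxeterSystem M W)
  {A : Fin m → Fin m → ℤ} (h : IsCartan M A)
  {J : Fin m → List (Fin l)} {L : List (List ℕ)} {σ : GL D.Idx K →* GL D.Idx K} {ρ ρ' : ℕ → ℕ}
  {f : ℕ → K → K} {G : Subgroup (GL D.Idx K)}

theorem nd_fold [Finite K] (FG : FoldGrp hp K J L σ ρ ρ' f G) {i : Fin m} {r : ℕ}
    {o : List ℕ} (N : NodeOK D J L ρ i r o) {φ : K →+* K} (hf : ∀ s ∈ r :: o, ∀ t, f s t = φ t)
    (h2 : (2 : K) ≠ 0) {t : ℕ} (ht : t < D.nroots)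
    (he : ((r :: o).map fun s => HMatDiagAll.expo D s t).sum % 2 = 1) :
    Nd ((D.diagonalSubgroup K ⊓ G).subgroupOf G) (fun i => (⟨nI hp K (J i), FG.nG i⟩ : ↥G))
      (fun z => (R D hp K J σ z).subgroupOf G) i (Phi FG N hf) := by
  constructor
  · intro y
    rw [mem_X_iff FG N hf]
    exact ⟨fun ⟨a, e⟩ => ⟨a, e.symm⟩, fun ⟨a, e⟩ => ⟨a, e.symm⟩⟩
  · intro a ha
    refine Phi_up_injective FG N hf ?_
    show Phi FG N hf (SL2Hom.up a) = Phi FG N hf (SL2Hom.up 0)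
    rw [up_zero, map_one]
    exact ha
  · intro c hc
    exact Phi_hS FG N hf hc
  · exact Phi_wS FG N hf
  · intro h0
    have h1 : Ph hp K N φ (Matrix.SpecialLinearGroup.map (Fx φ (o.length + 1)).subtype (-1)) = 1 :=
      congrArg Subtype.val h0
    rw [← hS_neg_one, map_hS, map_neg, map_one] at h1
    have h3 : hv (psi hp.inList K) φ (r :: o) (hS (-1)) = 1 := h1
    have h4 := coe_hv_neg_one hp.inList φ N.lt
    rw [h3, Units.val_one] at h4
    have h5 := congrFun (congrFun h4 (Sum.inr ⟨t, ht⟩)) (Sum.inr ⟨t, ht⟩)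
    rw [Matrix.diagonal_apply_eq, Matrix.one_apply_eq, Sum.elim_inr, InstChev.zpow_odd he] at h5
    apply h2
    linear_combination h5

theorem inst_fold [Finite K] (p : ℕ) [CharP K p] (hp2 : p ≠ 2)
    (h : IsCartan M A) (FD : FoldData D M A J L) (FG : FoldGrp hp K J L σ ρ ρ' f G) (r : Fin m → ℕ)
    (o : Fin m → List ℕ) (N : ∀ i, NodeOK D J L ρ i (r i) (o i)) {φ : K →+* K}
    (hf : ∀ i, ∀ s ∈ r i :: o i, ∀ t, f s t = φ t)
    (hpar : ∀ i, ∃ t, t < D.nroots ∧ ((r i :: o i).map fun s => HMatDiagAll.expo D s t).sum % 2 = 1)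
    (hcard : ∏ i, (Nat.card (Fx φ ((o i).length + 1)) - 1) ≤ Nat.card ↥(D.diagonalSubgroup K ⊓ G)) :
    Inst ↥G := by
  have hpp : p.Prime := CharP.char_is_prime K p
  have : Fact p.Prime := ⟨hpp⟩
  have : Finite M.Group := finite_W (hp := hp) M.toCoxeterSystem h FD
  have hR := Nodes.RGDFold.rgd M.toCoxeterSystem h FD FG p
  have hgen := Nodes.RGDFold.G1_eq_top M.toCoxeterSystem h FD FG p
  refine ⟨Fin m, M.Group, inferInstance, inferInstance, inferInstance, inferInstance, M, M.toCoxeterSystem,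
    A, h, p, (D.diagonalSubgroup K ⊓ G).subgroupOf G, (fun i => (⟨nI hp K (J i), FG.nG i⟩ : ↥G)),
    (fun z => (R D hp K J σ z).subgroupOf G), ?_⟩
  refine datum_of_nd hR hgen hpp hp2 (fun i => Fx φ ((o i).length + 1)) (fun i => Phi FG (N i) (hf i)) ?_
    (fun i => odd_card_Fx hp2 φ _) ?_
  · intro i
    obtain ⟨t, ht, he⟩ := hpar i
    exact nd_fold FG (N i) (hf i) (InstChev.two_ne hp2) ht he
  · refine hcard.trans (le_of_eq ?_)
    exact (Nat.card_congr (Subgroup.subgroupOfEquivOfLe inf_le_right).toEquiv).symm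

end Fold

variable {K : Type} [Field K] [Fintype K] {q : ℕ} (hq : IsPrimePow q) (p : ℕ) [CharP K p] (hp2 : p ≠ 2)

include hq hp2

/-- **`³D₄(q)`, `q` odd.** -/
theorem inst_D4 (hK : Fintype.card K = q ^ 3) : Inst ↥(twistedD4 K q) := by
  obtain ⟨φ, hφ⟩ := D4Fixed.exists_frob hq hK
  refine inst_fold p hp2 Nodes.RGDTwD4.isCartan Nodes.RGDTwD4.foldData
    (Nodes.RGDTwD4.foldGrp hφ (D4Fixed.twisted_le_fix hK hφ)) _ _ Nodes.RGDTwNode.D4.nodeOK (φ := φ)
    (fun i s hs t => by rw [Nodes.RGDTwNode.D4.eps_one i s hs, Int.cast_one, one_mul])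
    (parityTw_spec parity_D4) ?_
  rw [Cfsg.Agent.S1106.result hq hK, Fin.prod_univ_two]
  have h1 : Nat.card (Fx φ (0 + 1)) - 1 ≤ q - 1 := card_Fx_one hq.one_lt hK hφ
  have h2 : Nat.card (Fx φ (2 + 1)) - 1 ≤ q ^ 3 - 1 := by
    refine Nat.sub_le_sub_right ?_ 1
    rw [← hK, ← Nat.card_eq_fintype_card]
    exact card_Fx_le φ _
  refine (Nat.mul_le_mul h1 h2).trans (le_of_eq ?_)
  obtain ⟨m, rfl⟩ : ∃ m, q = m + 1 := ⟨q - 1, (Nat.sub_add_cancel hq.one_lt.le).symm⟩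
  have e : (m + 1) ^ 3 - 1 = m * ((m + 1) ^ 2 + (m + 1) + 1) := by
    apply Nat.sub_eq_of_eq_add
    ring
  rw [e, Nat.add_sub_cancel]
  ring

/-- **`²E₆(q)`, `q` odd, `3 ∤ q + 1`.** -/
theorem inst_E6 (hK : Fintype.card K = q ^ 2) (h3 : Nat.gcd 3 (q + 1) = 1) : Inst ↥(twistedE6 K q) := by
  obtain ⟨φ, hφ, hqq⟩ := TwE6Basic.exists_frob hq hK
  refine inst_fold p hp2 Nodes.RGDTwE6.isCartan Nodes.RGDTwE6.foldData
    (Nodes.RGDTwE6.foldGrp hφ hqq) _ _ Nodes.RGDTwNode.E6.nodeOK (φ := φ)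
    (fun i s hs t => by rw [Nodes.RGDTwNode.E6.eps_one i s hs, Int.cast_one, one_mul])
    (parityTw_spec parity_E6) ?_
  have hT := Cfsg.Agent.S1102.result hq hK
  rw [h3, one_mul] at hT
  rw [hT, Fin.prod_univ_four]
  have h1 : Nat.card (Fx φ (0 + 1)) - 1 ≤ q - 1 := card_Fx_one hq.one_lt hK hφ
  have h2 : Nat.card (Fx φ (1 + 1)) - 1 ≤ q ^ 2 - 1 := by
    refine Nat.sub_le_sub_right ?_ 1
    rw [← hK, ← Nat.card_eq_fintype_card]
    exact card_Fx_le φ _
  refine (Nat.mul_le_mul (Nat.mul_le_mul (Nat.mul_le_mul h1 h1) h2) h2).trans (le_of_eq ?_)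
  obtain ⟨m, rfl⟩ : ∃ m, q = m + 1 := ⟨q - 1, (Nat.sub_add_cancel hq.one_lt.le).symm⟩
  have e : (m + 1) ^ 2 - 1 = m * (m + 2) := by
    apply Nat.sub_eq_of_eq_add
    ring
  rw [e, Nat.add_sub_cancel]
  ring

end Cfsg.Agent.KFacts.MulOdd.InstTw
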