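import Mathlib
import Cfsg.Agent.KFacts.MulDef

/-!
# Double covers of groups with quaternion Sylow 2-subgroups

* `not_mem_commutator` : a central extension of a (generalised) quaternion group by `⟨c⟩` of order 2 splits off `c`
  (`c` is no product of commutators);
* `false_of_quaternion` : a finite group generated by `p`-elements, `p` odd, has no central involution `c` such that
  the Sylow 2-subgroups of the quotient by `⟨c⟩` are quaternion.
-/

set_option autoImplicit false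
set_option linter.style.haveILetI false

namespace Cfsg.Agent.KFacts.MulOdd.RankOne

open Subgroup
open scoped commutatorElement

/-! ### A group with an abelian subgroup of index two -/

section AbelTwo

variable {S : Type*} [Group S] {A : Subgroup S} {b : S}

/-- the commutators `[x, b]`, `x ∈ A` -/
def DD (hA : ∀ x ∈ A, ∀ y ∈ A, x * y = y * x) (hb : ∀ x ∈ A, b * x * b⁻¹ ∈ A) : Subgroup S where
  carrier := {d | ∃ x ∈ A, d = x * (b * x⁻¹ * b⁻¹)}
  one_mem' := ⟨1, one_mem A, by group⟩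
  mul_mem' := by
    rintro _ _ ⟨x, hx, rfl⟩ ⟨y, hy, rfl⟩
    refine ⟨x * y, mul_mem hx hy, ?_⟩
    have h1 : b * x⁻¹ * b⁻¹ * y = y * (b * x⁻¹ * b⁻¹) := hA _ (hb _ (inv_mem hx)) _ hy
    have h2 : b * x⁻¹ * b⁻¹ * (b * y⁻¹ * b⁻¹) = b * y⁻¹ * b⁻¹ * (b * x⁻¹ * b⁻¹) :=
      hA _ (hb _ (inv_mem hx)) _ (hb _ (inv_mem hy))
    calc x * (b * x⁻¹ * b⁻¹) * (y * (b * y⁻¹ * b⁻¹)) = x * ((b * x⁻¹ * b⁻¹ * y) * (b * y⁻¹ * b⁻¹)) := by group
      _ = x * y * (b * x⁻¹ * b⁻¹ * (b * y⁻¹ * b⁻¹)) := by rw [h1]; group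
      _ = x * y * (b * (x * y)⁻¹ * b⁻¹) := by rw [h2]; group
  inv_mem' := by
    rintro _ ⟨x, hx, rfl⟩
    refine ⟨x⁻¹, inv_mem hx, ?_⟩
    have h1 : b * x * b⁻¹ * x⁻¹ = x⁻¹ * (b * x * b⁻¹) := hA _ (hb _ hx) _ (inv_mem hx)
    calc (x * (b * x⁻¹ * b⁻¹))⁻¹ = b * x * b⁻¹ * x⁻¹ := by group
      _ = x⁻¹ * (b * x⁻¹⁻¹ * b⁻¹) := by rw [h1, inv_inv]

/-- The commutator subgroup of a group with an abelian subgroup of index 2. -/
theorem commutator_le (hA : ∀ x ∈ A, ∀ y ∈ A, x * y = y * x) (hb : ∀ x ∈ A, b * x * b⁻¹ ∈ A)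
    (hS : ∀ s : S, s ∈ A ∨ ∃ x ∈ A, s = x * b) : commutator S ≤ DD hA hb := by
  rw [commutator_eq_closure, closure_le]
  rintro _ ⟨s, t, rfl⟩
  rcases hS s with hs | ⟨x, hx, rfl⟩ <;> rcases hS t with ht | ⟨y, hy, rfl⟩
  · rw [commutatorElement_eq_one_iff_mul_comm.2 (hA _ hs _ ht)]
    exact one_mem _
  · refine ⟨s, hs, ?_⟩
    rw [commutatorElement_def]
    have h1 : b * s⁻¹ * b⁻¹ * y⁻¹ = y⁻¹ * (b * s⁻¹ * b⁻¹) := hA _ (hb _ (inv_mem hs)) _ (inv_mem hy)
    calc s * (y * b) * s⁻¹ * (y * b)⁻¹ = s * y * (b * s⁻¹ * b⁻¹ * y⁻¹) := by group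
      _ = s * (b * s⁻¹ * b⁻¹) := by rw [h1]; group
  · refine (DD hA hb).inv_mem_iff.1 ⟨t, ht, ?_⟩
    rw [commutatorElement_def]
    have h1 : b * t⁻¹ * b⁻¹ * x⁻¹ = x⁻¹ * (b * t⁻¹ * b⁻¹) := hA _ (hb _ (inv_mem ht)) _ (inv_mem hx)
    calc (x * b * t * (x * b)⁻¹ * t⁻¹)⁻¹ = t * x * (b * t⁻¹ * b⁻¹ * x⁻¹) := by group
      _ = t * (b * t⁻¹ * b⁻¹) := by rw [h1]; group
  · refine ⟨x * y⁻¹, mul_mem hx (inv_mem hy), ?_⟩
    rw [commutatorElement_def]
    have h1 : b * (y * x⁻¹) * b⁻¹ * y⁻¹ = y⁻¹ * (b * (y * x⁻¹) * b⁻¹) :=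
      hA _ (hb _ (mul_mem hy (inv_mem hx))) _ (inv_mem hy)
    calc x * b * (y * b) * (x * b)⁻¹ * (y * b)⁻¹ = x * (b * (y * x⁻¹) * b⁻¹ * y⁻¹) := by group
      _ = x * y⁻¹ * (b * (x * y⁻¹)⁻¹ * b⁻¹) := by rw [h1]; group

end AbelTwo

/-! ### Quaternion groups -/

open QuaternionGroup

/-- the cyclic subgroup of index 2 -/
def Cyc (n : ℕ) : Subgroup (QuaternionGroup n) where
  carrier := {x | ∃ i, x = a i}
  one_mem' := ⟨0, rfl⟩
  mul_mem' := by
    rintro _ _ ⟨i, rfl⟩ ⟨j, rfl⟩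
    exact ⟨i + j, a_mul_a i j⟩
  inv_mem' := by
    rintro _ ⟨i, rfl⟩
    exact ⟨-i, rfl⟩

theorem eq_zero_or {n : ℕ} [NeZero n] {i : ZMod (2 * n)} (hi : i + i = 0) : i = 0 ∨ i = n := by
  have hn : 0 < n := Nat.pos_of_ne_zero (NeZero.ne n)
  haveI : NeZero (2 * n) := ⟨by omega⟩
  have h1 : ((i.val + i.val : ℕ) : ZMod (2 * n)) = 0 := by
    rw [Nat.cast_add, ZMod.natCast_zmod_val, hi]
  rw [ZMod.natCast_eq_zero_iff, ← two_mul] at h1
  have h2 : n ∣ i.val := Nat.dvd_of_mul_dvd_mul_left (by norm_num) h1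
  have h3 : i.val < 2 * n := ZMod.val_lt i
  obtain ⟨k, hk⟩ := h2
  have h4 : k < 2 := by
    rw [hk] at h3
    by_contra h5
    push Not at h5
    nlinarith
  have h6 : i = ((i.val : ℕ) : ZMod (2 * n)) := (ZMod.natCast_zmod_val i).symm
  rw [h6, hk]
  interval_cases k
  · left; simp
  · right; simp

/-- **A central extension of a quaternion group by a group of order 2.** -/
theorem not_mem_commutator {S : Type*} [Group S] {n : ℕ} [NeZero n] {f : S →* QuaternionGroup n}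
    (hf : Function.Surjective f) {c : S} (hc : c ≠ 1) (hcen : ∀ x, c * x = x * c)
    (hker : ∀ x, f x = 1 ↔ x = 1 ∨ x = c) : c ∉ commutator S := by
  intro hmem
  have hcc : c * c = 1 := by
    have h1 : f (c * c) = 1 := by rw [map_mul, (hker c).2 (Or.inr rfl), one_mul]
    rcases (hker _).1 h1 with h2 | h2
    · exact h2
    · exact absurd (mul_left_cancel (h2.trans (mul_one c).symm)) hc
  -- equality of images
  have heq : ∀ x y, f x = f y → x = y ∨ x = y * c := by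
    intro x y hxy
    have h1 : f (y⁻¹ * x) = 1 := by rw [map_mul, map_inv, hxy, inv_mul_cancel]
    rcases (hker _).1 h1 with h2 | h2
    · left; exact (inv_mul_eq_one.1 h2).symm
    · right; rw [← h2]; group
  obtain ⟨u, hu⟩ := hf (a 1)
  obtain ⟨b, hb⟩ := hf (xa 0)
  -- the elements over the cyclic subgroup
  have hpow : ∀ x ∈ (Cyc n).comap f, ∃ k : ℕ, x = u ^ k ∨ x = u ^ k * c := by
    rintro x ⟨i, hi⟩
    haveI : NeZero (2 * n) := ⟨by have := NeZero.ne n; omega⟩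
    refine ⟨i.val, heq _ _ ?_⟩
    rw [hi, map_pow, hu, a_one_pow, ZMod.natCast_zmod_val]
  have hA : ∀ x ∈ (Cyc n).comap f, ∀ y ∈ (Cyc n).comap f, x * y = y * x := by
    intro x hx y hy
    obtain ⟨k, hk⟩ := hpow x hx
    obtain ⟨l, hl⟩ := hpow y hy
    have hcu : ∀ k : ℕ, Commute (u ^ k) c := fun k => (hcen (u ^ k)).symm
    have huu : Commute (u ^ k) (u ^ l) := (Commute.refl u).pow_pow k l
    rcases hk with rfl | rfl <;> rcases hl with rfl | rfl
    · exact huu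
    · exact huu.mul_right (hcu k)
    · exact huu.mul_left (hcu l).symm
    · exact (huu.mul_right (hcu k)).mul_left ((hcu l).symm.mul_right (Commute.refl c))
  have hbA : ∀ x ∈ (Cyc n).comap f, b * x * b⁻¹ ∈ (Cyc n).comap f := by
    rintro x ⟨i, hi⟩
    refine ⟨-i, ?_⟩
    show f (b * x * b⁻¹) = _
    rw [map_mul, map_mul, map_inv, hi, hb, mul_inv_eq_iff_eq_mul, xa_mul_a, a_mul_xa]
    simp
  have hS : ∀ s : S, s ∈ (Cyc n).comap f ∨ ∃ x ∈ (Cyc n).comap f, s = x * b := by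
    intro s
    rcases hfs : f s with i | i
    · left; exact ⟨i, hfs⟩
    · right
      refine ⟨s * b⁻¹, ⟨-i, ?_⟩, by group⟩
      show f (s * b⁻¹) = _
      rw [map_mul, map_inv, hfs, hb, mul_inv_eq_iff_eq_mul, a_mul_xa]
      simp
  obtain ⟨x, hx, hcx⟩ := commutator_le hA hbA hS hmem
  -- `x` commutes with `b`
  have hxb : x * b = b * x → False := by
    intro h1
    apply hc
    rw [hcx]
    calc x * (b * x⁻¹ * b⁻¹) = x * b * x⁻¹ * b⁻¹ := by group
      _ = 1 := by rw [h1]; group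
  apply hxb
  obtain ⟨i, hi⟩ := hx
  have h1 : f (x * (b * x⁻¹ * b⁻¹)) = 1 := by rw [← hcx]; exact (hker c).2 (Or.inr rfl)
  have h2 : f x * f b = f b * f x := by
    rw [map_mul, map_mul, map_mul, map_inv, map_inv] at h1
    calc f x * f b = (f x * (f b * (f x)⁻¹ * (f b)⁻¹)) * f b * f x := by group
      _ = f b * f x := by rw [h1, one_mul]
  have hi' : f x = a i := hi
  rw [hi', hb, a_mul_xa, xa_mul_a, zero_sub, zero_add, xa.injEq] at h2
  have h3 : i + i = 0 := by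
    nth_rw 1 [← h2]
    exact neg_add_cancel i
  rcases eq_zero_or h3 with rfl | rfl
  · have h4 : f x = 1 := hi
    rcases (hker x).1 h4 with rfl | rfl
    · rw [one_mul, mul_one]
    · exact hcen b
  · have h4 : f x = f (b * b) := by
      rw [hi', map_mul, hb, xa_mul_xa]
      simp
    rcases heq _ _ h4 with rfl | rfl
    · group
    · rw [mul_assoc, hcen b]
      group

/-! ### Transfer -/

theorem false_of_quaternion {H G : Type*} [Group H] [Finite H] [Group G] {f : H →* G}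
    (hf : Function.Surjective f) {c : H} (hc : c ≠ 1) (hcen : ∀ x, c * x = x * c)
    (hker : ∀ x, f x = 1 ↔ x = 1 ∨ x = c) {p : ℕ} (hp : p.Prime) (hp2 : p ≠ 2)
    (hgen : closure {x : H | ∃ k : ℕ, x ^ p ^ k = 1} = ⊤) {P : Subgroup G} (hP : ¬ 2 ∣ P.index) {k : ℕ}
    (e : P ≃* QuaternionGroup (2 ^ k)) : False := by
  have hcc : c * c = 1 := by
    have h1 : f (c * c) = 1 := by rw [map_mul, (hker c).2 (Or.inr rfl), one_mul]
    rcases (hker _).1 h1 with h2 | h2
    · exact h2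
    · exact absurd (mul_left_cancel (h2.trans (mul_one c).symm)) hc
  set Q : Subgroup H := P.comap f with hQ
  have hcQ : c ∈ Q := by
    show f c ∈ P
    rw [(hker c).2 (Or.inr rfl)]
    exact one_mem P
  have hidx : Q.index = P.index := P.index_comap_of_surjective hf
  -- `Q` is a 2-group
  have hP2 : IsPGroup 2 P := by
    haveI : NeZero (2 ^ k) := ⟨by positivity⟩
    refine IsPGroup.of_card (n := k + 2) ?_
    rw [Nat.card_congr e.toEquiv, Nat.card_eq_fintype_card, QuaternionGroup.card, pow_add]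
    ring
  have hkp : IsPGroup 2 f.ker := by
    rintro ⟨x, hx⟩
    refine ⟨1, Subtype.ext ?_⟩
    show x ^ 2 ^ 1 = 1
    rcases (hker x).1 hx with h1 | h1 <;> rw [h1, pow_one, pow_two]
    · exact one_mul 1
    · exact hcc
  have hQ2 : IsPGroup 2 Q := hP2.comap_of_ker_isPGroup f hkp
  -- the extension of the quaternion group
  haveI : NeZero (2 ^ k) := ⟨by positivity⟩
  let g : Q →* QuaternionGroup (2 ^ k) := e.toMonoidHom.comp (f.subgroupComap P)
  have hgs : Function.Surjective g := by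
    intro y
    obtain ⟨x, hx⟩ := hf (e.symm y)
    refine ⟨⟨x, ?_⟩, ?_⟩
    · show f x ∈ P
      rw [hx]; exact (e.symm y).2
    · show e _ = y
      have : (f.subgroupComap P) ⟨x, by show f x ∈ P; rw [hx]; exact (e.symm y).2⟩ = e.symm y := Subtype.ext hx
      rw [this, e.apply_symm_apply]
  have hgk : ∀ x : Q, g x = 1 ↔ x = 1 ∨ x = ⟨c, hcQ⟩ := by
    intro x
    have h1 : g x = 1 ↔ f x = 1 := by
      show e _ = 1 ↔ _
      rw [EmbeddingLike.map_eq_one_iff]
      exact Subtype.ext_iff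
    rw [h1, hker, Subtype.ext_iff, Subtype.ext_iff]
    rfl
  have hnot := not_mem_commutator hgs (c := ⟨c, hcQ⟩) (fun h0 => hc (congrArg Subtype.val h0))
    (fun x => Subtype.ext (hcen x)) hgk
  -- transfer
  let φ : Q →* Abelianization Q := Abelianization.of
  have h1 : ∀ (k : ℕ) (g₀ : H), g₀⁻¹ * c ^ k * g₀ ∈ Q → g₀⁻¹ * c ^ k * g₀ = c ^ k := by
    intro k g₀ _
    have h2 : Commute c g₀ := hcen g₀
    rw [mul_assoc, (h2.pow_left k).eq]; group
  have h3 := MonoidHom.transfer_eq_pow φ c h1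
  have h4 : MonoidHom.transfer φ c = 1 := by
    have h5 : (MonoidHom.transfer φ).ker = ⊤ := by
      rw [eq_top_iff, ← hgen, closure_le]
      rintro x ⟨j, hj⟩
      show MonoidHom.transfer φ x = 1
      set y := MonoidHom.transfer φ x with hy
      have h6 : y ^ p ^ j = 1 := by rw [hy, ← map_pow, hj, map_one]
      obtain ⟨y', hy'⟩ : ∃ y' : Q, Abelianization.of y' = y := QuotientGroup.mk_surjective y
      obtain ⟨l, hl⟩ := hQ2 y'
      have h7 : y ^ 2 ^ l = 1 := by rw [← hy', ← map_pow, hl, map_one]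
      have hcop : Nat.Coprime (2 ^ l) (p ^ j) :=
        Nat.Coprime.pow _ _ ((Nat.coprime_primes Nat.prime_two hp).2 (Ne.symm hp2))
      have h8 : orderOf y ∣ 1 := by
        rw [← hcop]
        exact Nat.dvd_gcd (orderOf_dvd_of_pow_eq_one h7) (orderOf_dvd_of_pow_eq_one h6)
      exact orderOf_eq_one_iff.1 (Nat.dvd_one.1 h8)
    have : c ∈ (MonoidHom.transfer φ).ker := by rw [h5]; exact mem_top _
    exact this
  have h5 : c ^ Q.index = c := by
    obtain ⟨k, hk⟩ := Nat.odd_iff.2 (Nat.two_dvd_ne_zero.1 (hidx ▸ hP))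
    rw [hk, pow_succ, pow_mul, pow_two, hcc, one_pow, one_mul]
  have h6 : (⟨c ^ Q.index, MonoidHom.transfer_eq_pow_aux c h1⟩ : Q) = ⟨c, hcQ⟩ := Subtype.ext h5
  rw [h4, h6] at h3
  exact hnot ((QuotientGroup.eq_one_iff (N := commutator Q) _).1 h3.symm)

end Cfsg.Agent.KFacts.MulOdd.RankOne
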