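import Mathlib
import Cfsg.Agent.KFacts.RgdRigid
import Cfsg.Agent.KFacts.MulOdd.Inst

/-!
# The torus of a group generated by its root groups

`Hv T X i = T ⊓ ⟨X_i, X_{-i}⟩`, `TT T X = ⨆ i, Hv T X i`.

* `exists_nn`, `rgd` : with representatives `m i ∈ ⟨X_i, X_{-i}⟩` the groups `TT T X`, `X` form a root group datum;
* `torus_le` : if the root groups generate the group then `T ≤ TT T X`.
-/

set_option autoImplicit false
set_option linter.unusedSectionVars false

namespace Cfsg.Agent.KFacts.MulOdd.Shrink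

open CoxeterSystem Cfsg.Agent.ChevalleyStructure.CoxeterGeom Cfsg.Agent.Tits.Roots Cfsg.Agent.Tits.Core
  Cfsg.Agent.Tits.Exchange Cfsg.Agent.Nodes.Reps Cfsg.Agent.Nodes.BNOf Cfsg.Agent.Nodes.StabComb
  Cfsg.Agent.Nodes.Bruhat Cfsg.Agent.Nodes.OppDec Cfsg.Agent.Nodes.RGDLib Cfsg.Agent.KFacts.RgdAut Cfsg.Agent.KFacts.RgdRigid
  Cfsg.Agent.KFacts.MulOdd.Inst
open scoped commutatorElement

/-! ### Words in two involutions -/

section Words

variable {G : Type*} [Group G] {a b : G}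

theorem pow_ba (ha : a * a = 1) (hb : b * b = 1) (k : ℕ) : (b * a) ^ k = ((a * b) ^ k)⁻¹ := by
  rw [← inv_pow, mul_inv_rev, inv_eq_of_mul_eq_one_right ha, inv_eq_of_mul_eq_one_right hb]

theorem even_iff (ha : a * a = 1) (hb : b * b = 1) (k : ℕ) :
    (b * a) ^ k * b * a = a * ((b * a) ^ k * b) ↔ (a * b) ^ (2 * (k + 1)) = 1 := by
  have h1 : (b * a) ^ k * b * a = ((a * b) ^ (k + 1))⁻¹ := by rw [mul_assoc, ← pow_succ, pow_ba ha hb]
  have h2 : a * ((b * a) ^ k * b) = (a * b) ^ (k + 1) := by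
    rw [← mul_assoc, ← mul_pow_mul, mul_assoc, ← pow_succ]
  rw [h1, h2, two_mul, pow_add _ (k + 1) (k + 1), inv_eq_iff_mul_eq_one]

theorem odd_iff (ha : a * a = 1) (hb : b * b = 1) (k : ℕ) :
    (b * a) ^ k * b = a * (b * a) ^ k ↔ (a * b) ^ (2 * k + 1) = 1 := by
  rw [← mul_pow_mul, pow_ba ha hb, pow_succ, two_mul, pow_add]
  set x := (a * b) ^ k
  constructor
  · intro h1
    have h2 : x * x * (a * b) = x * (x * a) * b := by group
    rw [h2, ← h1]
    have h3 : x * (x⁻¹ * b) * b = b * b := by group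
    rw [h3, hb]
  · intro h1
    have h2 : x * a = x⁻¹ * (x * x * (a * b)) * b⁻¹ := by group
    rw [h2, h1, mul_one, inv_eq_of_mul_eq_one_right hb]

end Words

variable {I W Y : Type*} [Fintype I] [DecidableEq I] [Group W] [Group Y] {M : CoxeterMatrix I}
  {cs : CoxeterSystem M W} {A : I → I → ℤ} {h : IsCartan M A} {p : ℕ} {T : Subgroup Y} {n : I → Y}
  {X : (I → ℤ) → Subgroup Y}

/-- The torus of the rank one subgroup. -/
def Hv (T : Subgroup Y) (X : (I → ℤ) → Subgroup Y) (i : I) : Subgroup Y := T ⊓ Lv X i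

/-- The group generated by the tori of the rank one subgroups. -/
def TT (T : Subgroup Y) (X : (I → ℤ) → Subgroup Y) : Subgroup Y := ⨆ i, Hv T X i

theorem Hv_le_TT (i : I) : Hv T X i ≤ TT T X := le_iSup (fun i => Hv T X i) i

theorem TT_le : TT T X ≤ T := iSup_le fun _ => inf_le_left

/-- A root conjugate to a fundamental root by an element conjugating the reflections. -/
theorem rep_eq_or {v : W} {a b : I} (hv : v * cs.simple a = cs.simple b * v) :
    rep cs h v (sr a) = sr b ∨ rep cs h v (sr a) = -sr b := by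
  have hx : IsRoot cs h (rep cs h v (sr a)) := (isRoot_sr cs h a).act v
  have h1 : rep cs h (cs.simple b) (rep cs h v (sr a)) = -rep cs h v (sr a) := by
    rw [← rep_mul_apply, ← hv, rep_mul_apply, rep_simple_sr, map_neg]
  have h2 : ∀ k, k ≠ b → rep cs h v (sr a) k = 0 := by
    intro k hk
    have h3 := congrFun h1 k
    rw [rep_simple_apply cs h b _ k hk, Pi.neg_apply] at h3
    omega
  rcases hx.pos_or_neg with h0 | h0
  · exact Or.inl (hx.eq_sr h0 b h2)
  · right
    have h3 := hx.neg.eq_sr (by simpa using h0) b (fun k hk => by rw [Pi.neg_apply, h2 k hk, neg_zero])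
    rw [← h3, neg_neg]

theorem rp_pow {hN : NSys M T n} {w : W} {g : Y} (hg : Rp cs hN w g) (k : ℕ) : Rp cs hN (w ^ k) (g ^ k) := by
  induction k with
  | zero => rw [pow_zero, pow_zero]; exact rp_one
  | succ k ih => rw [pow_succ, pow_succ]; exact ih.mul hg

section

variable (R : RGD cs h p T n X)

include R

/-- Representatives of the simple reflections in the rank one subgroups. -/
theorem exists_nn : ∃ m : I → Y, ∀ i, m i ∈ Lv X i ∧ Rp cs R.nsys (cs.simple i) (m i) := by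
  have h1 : ∀ i, ∃ m : Y, m ∈ Lv X i ∧ Rp cs R.nsys (cs.simple i) m := by
    intro i
    have hb := X_ne_bot R (isRoot_sr cs h i).neg
    obtain ⟨⟨u, hu⟩, hu0⟩ := Subgroup.ne_bot_iff_exists_ne_one.1 hb
    have hu1 : u ≠ 1 := fun h0 => hu0 (Subtype.ext h0)
    obtain ⟨a, ha, t, ht, b, hb, e⟩ := R.rk1 i u hu hu1
    refine ⟨t * n i, ?_, ?_⟩
    · have h2 : t * n i = a⁻¹ * u * b⁻¹ := by rw [e]; group
      rw [h2]
      exact mul_mem (mul_mem (inv_mem (le_sup_left (a := X (sr i)) ha)) (le_sup_right (b := X (-sr i)) hu))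
        (inv_mem (le_sup_left (a := X (sr i)) hb))
    · have := (rp_of_mem (cs := cs) (hN := R.nsys) ht).mul (rp_simple cs R.nsys i)
      rwa [one_mul] at this
  choose m hm using h1
  exact ⟨m, hm⟩

theorem cj_Lv {v : W} {g : Y} (hg : Rp cs R.nsys v g) {a b : I} (hv : v * cs.simple a = cs.simple b * v) :
    cj g (Lv X a) = Lv X b := by
  unfold Lv
  rw [cj_sup, R.conj_rp hg (isRoot_sr cs h a), R.conj_rp hg (isRoot_sr cs h a).neg, map_neg]
  rcases rep_eq_or (h := h) hv with h1 | h1 <;> rw [h1]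
  rw [neg_neg, sup_comm]

theorem cj_t_Lv {t : Y} (ht : t ∈ T) (i : I) : cj t (Lv X i) = Lv X i := by
  unfold Lv
  rw [cj_sup, R.tor _ (isRoot_sr cs h i) t ht, R.tor _ (isRoot_sr cs h i).neg t ht]

/-- An element of a rank one subgroup normalising `T` normalises `TT`. -/
theorem mem_norm_TT {k : Y} {i : I} (hk : k ∈ Lv X i) (hkT : k ∈ Subgroup.normalizer (T : Set Y)) :
    k ∈ Subgroup.normalizer (TT T X : Set Y) := by
  have key : ∀ k ∈ Lv X i, k ∈ Subgroup.normalizer (T : Set Y) → cj k (TT T X) ≤ TT T X := by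
    intro k hk hkT x hx
    rw [mem_cj] at hx
    set t := k⁻¹ * x * k with htd
    have hxt : x = k * t * k⁻¹ * t⁻¹ * t := by rw [htd]; group
    rw [hxt]
    refine mul_mem (Hv_le_TT i (Subgroup.mem_inf.2 ⟨?_, ?_⟩)) hx
    · exact mul_mem ((Subgroup.mem_normalizer_iff.1 hkT t).1 (TT_le hx)) (inv_mem (TT_le hx))
    · have h1 : t * k⁻¹ * t⁻¹ ∈ Lv X i := by
        rw [← cj_t_Lv R (TT_le hx) i]
        exact conj_mem_cj.2 (inv_mem hk)
      have h2 : k * t * k⁻¹ * t⁻¹ = k * (t * k⁻¹ * t⁻¹) := by group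
      rw [h2]
      exact mul_mem hk h1
  rw [mem_normalizer_iff_cj]
  apply le_antisymm (key k hk hkT)
  have h1 := cj_mono k (key k⁻¹ (inv_mem hk) (inv_mem hkT))
  rwa [cj_cj_inv] at h1

variable {m : I → Y} (hm : ∀ i, m i ∈ Lv X i ∧ Rp cs R.nsys (cs.simple i) (m i))

include hm

theorem conj_mem_Hv {v : W} {g : Y} (hg : Rp cs R.nsys v g) {a b : I} (hv : v * cs.simple a = cs.simple b * v) :
    g * m a * g⁻¹ * (m b)⁻¹ ∈ Hv T X b := by
  refine Subgroup.mem_inf.2 ⟨?_, ?_⟩
  · have h1 := ((hg.mul (hm a).2).mul hg.inv).mul (hm b).2.inv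
    have h2 : v * cs.simple a * v⁻¹ * (cs.simple b)⁻¹ = 1 := by rw [hv]; group
    rw [h2] at h1
    exact h1.mem_of_one
  · refine mul_mem ?_ (inv_mem (hm b).1)
    rw [← cj_Lv R hg hv]
    exact conj_mem_cj.2 (hm a).1

theorem norm_m (i : I) : m i ∈ Subgroup.normalizer (TT T X : Set Y) :=
  mem_norm_TT R (hm i).1 (hm i).2.mem_normalizer

theorem rel_m (i j : I) : (m i * m j) ^ M i j ∈ TT T X := by
  classical
  set N := Subgroup.normalizer (TT T X : Set Y) with hN
  let mm : I → N := fun i => ⟨m i, norm_m R hm i⟩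
  let π : N →* Quo (TT T X) := QuotientGroup.mk' _
  have hπ : ∀ x : N, π x = 1 ↔ (x : Y) ∈ TT T X := by
    intro x
    change (QuotientGroup.mk x : Quo (TT T X)) = 1 ↔ _
    rw [QuotientGroup.eq_one_iff, Subgroup.mem_subgroupOf]
  have hsq : ∀ i, π (mm i) * π (mm i) = 1 := by
    intro i
    rw [← map_mul, hπ]
    refine Hv_le_TT i (Subgroup.mem_inf.2 ⟨?_, mul_mem (hm i).1 (hm i).1⟩)
    have h1 := (hm i).2.mul (hm i).2
    rw [simple_mul_simple_self] at h1
    exact h1.mem_of_one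
  have hrel : ∀ (g : N) (v : W) (a b : I), Rp cs R.nsys v (g : Y) → v * cs.simple a = cs.simple b * v →
      π g * π (mm a) = π (mm b) * π g := by
    intro g v a b hg hv
    have h1 : π (g * mm a * g⁻¹ * (mm b)⁻¹) = 1 := (hπ _).2 (Hv_le_TT b (conj_mem_Hv R hm hg hv))
    rw [map_mul, map_mul, map_mul, map_inv, map_inv, mul_inv_eq_one, mul_inv_eq_iff_eq_mul] at h1
    exact h1
  have hrpow : ∀ k : ℕ, Rp cs R.nsys ((cs.simple j * cs.simple i) ^ k) (((mm j * mm i) ^ k : N) : Y) := by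
    intro k
    rw [SubgroupClass.coe_pow]
    exact rp_pow ((hm j).2.mul (hm i).2) k
  have hW := cs.simple_mul_simple_pow i j
  suffices h0 : (π (mm i) * π (mm j)) ^ M i j = 1 by
    rw [← map_mul, ← map_pow, hπ] at h0
    simpa using h0
  have hsi := cs.simple_mul_simple_self i
  have hsj := cs.simple_mul_simple_self j
  rcases Nat.even_or_odd' (M i j) with ⟨k, hk | hk⟩
  · rcases k with _ | k
    · rw [hk]; exact pow_zero _
    · rw [hk] at hW ⊢
      rw [← even_iff (hsq i) (hsq j)]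
      rw [← even_iff hsi hsj] at hW
      have h1 := hrel ((mm j * mm i) ^ k * mm j) ((cs.simple j * cs.simple i) ^ k * cs.simple j) i i
        ((hrpow k).mul (hm j).2) hW
      simpa only [map_mul, map_pow] using h1
  · rw [hk] at hW ⊢
    rw [← odd_iff (hsq i) (hsq j)]
    rw [← odd_iff hsi hsj] at hW
    have h1 := hrel ((mm j * mm i) ^ k) ((cs.simple j * cs.simple i) ^ k) j i (hrpow k) hW
    simpa only [map_mul, map_pow] using h1

/-- **The root group datum with the small torus.** -/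
theorem rgd : RGD cs h p (TT T X) m X where
  nsys := ⟨norm_m R hm, rel_m R hm⟩
  conj i x hx := R.conj_rp (hm i).2 hx
  tor x hx t ht := R.tor x hx t (TT_le ht)
  comm := R.comm
  rk1 i u hu hne := by
    obtain ⟨a, ha, t, ht, b, hb, e⟩ := R.rk1 i u hu hne
    refine ⟨a, ha, t * n i * (m i)⁻¹, Hv_le_TT i (Subgroup.mem_inf.2 ⟨?_, ?_⟩), b, hb, by rw [e]; group⟩
    · have h1 := ((rp_of_mem (cs := cs) (hN := R.nsys) ht).mul (rp_simple cs R.nsys i)).mul (hm i).2.inv
      rw [one_mul, mul_inv_cancel] at h1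
      exact h1.mem_of_one
    · have h2 : t * n i * (m i)⁻¹ = a⁻¹ * u * b⁻¹ * (m i)⁻¹ := by rw [e]; group
      rw [h2]
      exact mul_mem (mul_mem (mul_mem (inv_mem (le_sup_left (a := X (sr i)) ha))
        (le_sup_right (b := X (-sr i)) hu)) (inv_mem (le_sup_left (a := X (sr i)) hb))) (inv_mem (hm i).1)
  pgrp := R.pgrp
  notp := R.notp
  tcop := Nat.Coprime.coprime_dvd_left (Subgroup.card_dvd_of_le TT_le) R.tcop

omit hm in
/-- **The torus of a group generated by its root groups.** -/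
theorem torus_le [Finite W] (hG : G1 cs h X = ⊤) : T ≤ TT T X := by
  obtain ⟨m, hm⟩ := exists_nn R
  have R' := rgd R hm
  have hGG : GG cs h (TT T X) X = ⊤ := by
    rw [eq_top_iff, ← hG]
    exact RGD.Sup_le fun x hx => X_le_GG hx
  have hnorm : ∀ S : Set (I → ℤ), (∀ x ∈ S, IsRoot cs h x) → ∀ t ∈ T,
      t ∈ Subgroup.normalizer (RGD.Sup X S : Set Y) := by
    intro S hS t ht
    rw [mem_normalizer_iff_cj, RGD.cj_Sup]
    exact iSup_congr fun z => R.tor z.1 (hS z.1 z.2) t ht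
  intro t ht
  rw [← B_inf_BN R']
  refine ⟨?_, ?_⟩
  · rw [← normalizer_U' R' hGG]
    exact hnorm _ (fun x hx => hx.1) t ht
  · rw [← normalizer_UN R' hGG]
    exact hnorm _ (fun x hx => hx.1) t ht

end

end Cfsg.Agent.KFacts.MulOdd.Shrink
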