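import Mathlib
import Cfsg.Agent.Nodes.RGDLift
import Cfsg.Agent.KFacts.MulOdd.Shrink
import Cfsg.Agent.KFacts.MulOdd.RankOne
import Cfsg.Agent.S0261

/-!
# No perfect double covers: groups with a root group datum in odd characteristic

`noDouble : Inst G → NoDouble G`: the root group datum lifts to the double cover `L`; `L` is generated by its root
groups, hence (`Shrink.torus_le`) its torus is the product of the tori of the rank one subgroups; these do not contain
the central involution (`RankOne`), so that the order of the torus of `L` is at most the order of the torus of `G`.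
-/

set_option autoImplicit false
set_option linter.style.haveILetI false

namespace Cfsg.Agent.KFacts.MulOdd.Main

open CoxeterSystem Cfsg.Agent.ChevalleyStructure.CoxeterGeom Cfsg.Agent.Tits.Roots
  Cfsg.Agent.Nodes.Reps Cfsg.Agent.Nodes.BNOf Cfsg.Agent.Nodes.RGDLib Cfsg.Agent.Nodes.RGDLift
  Cfsg.Agent.KFacts.MulDef Cfsg.Agent.KFacts.MulOdd.Inst Cfsg.Agent.KFacts.MulOdd.Shrink
  Cfsg.Agent.KFacts.MulOdd.RankOne
open scoped commutatorElement Pointwise

/-! ### The order of a product of normal subgroups -/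

theorem card_biSup_le {G ι : Type*} [Group G] [Finite G] (H : ι → Subgroup G) (hH : ∀ i, (H i).Normal)
    (s : Finset ι) : Nat.card ↥(⨆ i ∈ s, H i) ≤ ∏ i ∈ s, Nat.card (H i) := by
  classical
  induction s using Finset.induction_on with
  | empty => simp
  | insert a s ha ih =>
    rw [Finset.iSup_insert, Finset.prod_insert ha]
    have h1 : (⨆ i ∈ s, H i).Normal := Subgroup.biSup_normal (s : Set ι) H fun i _ => hH i
    have h2 : ((H a ⊔ ⨆ i ∈ s, H i : Subgroup G) : Set G) = (H a : Set G) * ((⨆ i ∈ s, H i : Subgroup G) : Set G) :=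
      Subgroup.mul_normal _ _
    calc Nat.card ↥(H a ⊔ ⨆ i ∈ s, H i) = Nat.card ((H a : Set G) * ((⨆ i ∈ s, H i : Subgroup G) : Set G) : Set G) := by
          rw [← h2]; rfl
      _ ≤ Nat.card (H a) * Nat.card ↥(⨆ i ∈ s, H i) := Set.natCard_mul_le
      _ ≤ _ := Nat.mul_le_mul_left _ ih

theorem card_iSup_le {G ι : Type*} [Group G] [Finite G] [Fintype ι] (H : ι → Subgroup G)
    (hH : ∀ i, (H i).Normal) : Nat.card ↥(⨆ i, H i) ≤ ∏ i, Nat.card (H i) := by
  have h1 := card_biSup_le H hH Finset.univ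
  have h2 : (⨆ i ∈ Finset.univ, H i) = ⨆ i, H i := by simp
  rwa [h2] at h1

/-- A subgroup which covers the central quotient of a perfect group is the whole group. -/
theorem eq_top_of_perfect {L : Type*} [Group L] {c : L} (hperf : commutator L = ⊤) (hcen : ∀ x, c * x = x * c)
    {K : Subgroup L} (hK : ∀ x : L, x ∈ K ∨ x * c ∈ K) : K = ⊤ := by
  rw [eq_top_iff, ← hperf, commutator_eq_closure, Subgroup.closure_le]
  rintro _ ⟨s, t, rfl⟩
  have hc : ∀ s : L, ∃ s' ∈ K, s = s' ∨ s = s' * c⁻¹ := by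
    intro s
    rcases hK s with h1 | h1
    · exact ⟨s, h1, Or.inl rfl⟩
    · exact ⟨s * c, h1, Or.inr (by group)⟩
  have hci : ∀ x, c⁻¹ * x = x * c⁻¹ := fun x => by
    have h1 : Commute c x := hcen x
    exact h1.inv_left
  obtain ⟨s', hs', hs⟩ := hc s
  obtain ⟨t', ht', ht⟩ := hc t
  have h1 : ⁅s, t⁆ = ⁅s', t'⁆ := by
    have e1 : ∀ x y : L, ⁅x * c⁻¹, y⁆ = ⁅x, y⁆ := by
      intro x y
      rw [commutatorElement_def, commutatorElement_def]
      calc x * c⁻¹ * y * (x * c⁻¹)⁻¹ * y⁻¹ = x * (c⁻¹ * y) * c * x⁻¹ * y⁻¹ := by group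
        _ = x * y * x⁻¹ * y⁻¹ := by rw [hci y]; group
    have e2 : ∀ x y : L, ⁅x, y * c⁻¹⁆ = ⁅x, y⁆ := by
      intro x y
      rw [← inv_inj, commutatorElement_inv, commutatorElement_inv, e1]
    rcases hs with rfl | rfl <;> rcases ht with rfl | rfl
    · rfl
    · exact e2 _ _
    · exact e1 _ _
    · rw [e1, e2]
  rw [h1, commutatorElement_def]
  exact mul_mem (mul_mem (mul_mem hs' ht') (inv_mem hs')) (inv_mem ht')

/-! ### The main theorem -/

section

variable {I W G L : Type*} [Fintype I] [DecidableEq I] [Group W] [Finite W] [Group G] [Group L] [Finite L]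
  {M : CoxeterMatrix I} {cs : CoxeterSystem M W} {A : I → I → ℤ} {h : IsCartan M A} {p : ℕ} {T : Subgroup G}
  {n : I → G} {X : (I → ℤ) → Subgroup G} {π : L →* G} {c : L}

omit [Finite L] in
theorem ker_le (hd : Dbl π c) : π.ker ≤ Subgroup.center L := by
  intro x hx
  rcases (hd.ker x).1 hx with rfl | rfl
  · exact one_mem _
  · exact Subgroup.mem_center_iff.2 fun y => (hd.cen y).symm

omit [Finite L] in
theorem card_ker (hd : Dbl π c) : Nat.card π.ker = 2 := by
  classical
  have h1 : (π.ker : Set L) = {1, c} := by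
    ext x
    exact hd.ker x
  calc Nat.card π.ker = Nat.card (({1, c} : Set L)) := by rw [← h1]; rfl
    _ = 2 := by
      rw [Nat.card_coe_set_eq, Set.ncard_pair hd.ne.symm]

/-- The rank one subgroups of the double cover do not contain the central involution. -/
theorem not_mem_Lv (hd : Dbl π c) (D : Datum cs h p T n X) (i : I) : c ∉ Lv (fun x => lft p π (X x)) i := by
  intro hc
  haveI : Fact p.Prime := ⟨D.prime⟩
  have hf := ker_le hd
  have hp : (Nat.card π.ker).Coprime p := by
    rw [card_ker hd]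
    exact (Nat.coprime_primes Nat.prime_two D.prime).2 (Ne.symm D.odd)
  have hP1 := D.pgrp i
  have hP2 := D.toRGD.pgrp' (isRoot_sr cs h i).neg
  set H : Subgroup L := Lv (fun x => lft p π (X x)) i with hH
  have hmap : H.map π = Lv X i := by
    rw [hH]
    unfold Lv
    rw [Subgroup.map_sup, map_lft hf hp hd.surj hP1, map_lft hf hp hd.surj hP2]
  obtain ⟨F, _, _, φ, hF, hφ, hr⟩ := D.slt i
  haveI : Fintype F := Fintype.ofFinite F
  rw [Nat.card_eq_fintype_card] at hF
  haveI : Fact (Nat.Prime 2) := ⟨Nat.prime_two⟩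
  let P0 : Sylow 2 (Matrix.SpecialLinearGroup (Fin 2) F) := default
  obtain ⟨k, -, ⟨e⟩⟩ := Cfsg.Agent.S0261.result hF P0
  have hmem : ∀ x : H, π x ∈ φ.range := by
    intro x
    rw [hr, ← hmap]
    exact Subgroup.mem_map_of_mem π x.2
  let f : H →* Matrix.SpecialLinearGroup (Fin 2) F :=
    (MonoidHom.ofInjective hφ).symm.toMonoidHom.comp ((π.comp H.subtype).codRestrict φ.range hmem)
  have hfφ : ∀ x : H, φ (f x) = π x := by
    intro x
    exact MonoidHom.apply_ofInjective_symm hφ ⟨π x, hmem x⟩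
  have hfs : Function.Surjective f := by
    intro y
    have h1 : φ y ∈ H.map π := by rw [hmap, ← hr]; exact ⟨y, rfl⟩
    obtain ⟨x, hx, hxy⟩ := h1
    exact ⟨⟨x, hx⟩, hφ ((hfφ ⟨x, hx⟩).trans hxy)⟩
  have hfk : ∀ x : H, f x = 1 ↔ x = 1 ∨ x = ⟨c, hc⟩ := by
    intro x
    rw [← hφ.eq_iff, hfφ, map_one, hd.ker, Subtype.ext_iff, Subtype.ext_iff]
    rfl
  have hgen : Subgroup.closure {x : H | ∃ k : ℕ, x ^ p ^ k = 1} = ⊤ := by
    set K := Subgroup.closure {x : H | ∃ k : ℕ, x ^ p ^ k = 1} with hK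
    have h1 : ∀ P : Subgroup G, lft p π P ≤ H → lft p π P ≤ K.map H.subtype := by
      intro P hP
      conv_lhs => unfold lft
      rw [Subgroup.closure_le]
      rintro y ⟨hy, k, hk⟩
      have hyH : y ∈ H := hP (Subgroup.subset_closure ⟨hy, k, hk⟩)
      exact ⟨⟨y, hyH⟩, Subgroup.subset_closure ⟨k, Subtype.ext hk⟩, rfl⟩
    have h2 : H ≤ K.map H.subtype := sup_le (h1 _ le_sup_left) (h1 _ le_sup_right)
    rw [eq_top_iff]
    intro x _
    obtain ⟨z, hz, hzx⟩ := h2 x.2
    have : z = x := Subtype.ext hzx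
    rwa [← this]
  exact false_of_quaternion hfs (c := (⟨c, hc⟩ : H)) (fun h0 => hd.ne (congrArg Subtype.val h0))
    (fun x => Subtype.ext (hd.cen x)) hfk D.prime D.odd hgen P0.not_dvd_index e

theorem false_of_dbl (hd : Dbl π c) (D : Datum cs h p T n X) : False := by
  haveI : Fact p.Prime := ⟨D.prime⟩
  have hf := ker_le hd
  have hp : (Nat.card π.ker).Coprime p := by
    rw [card_ker hd]
    exact (Nat.coprime_primes Nat.prime_two D.prime).2 (Ne.symm D.odd)
  obtain ⟨g, hg⟩ := hd.surj.hasRightInverse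
  have R := rgd_lift hf hp hd.surj D.toRGD (n := fun i => g (n i)) (fun i => hg (n i))
  set T' : Subgroup L := T.comap π with hT'
  set X' : (I → ℤ) → Subgroup L := fun x => lft p π (X x) with hX'
  -- generation
  have hmapG : (G1 cs h X').map π = ⊤ := by
    rw [← D.gen]
    unfold G1 RGD.Sup
    rw [Subgroup.map_iSup]
    exact iSup_congr fun z => map_lft hf hp hd.surj (D.toRGD.pgrp' z.2)
  have hG1 : G1 cs h X' = ⊤ := by
    refine eq_top_of_perfect hd.perf hd.cen fun x => ?_
    have h1 : π x ∈ (G1 cs h X').map π := by rw [hmapG]; trivial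
    obtain ⟨y, hy, hyx⟩ := h1
    have h2 : π (y⁻¹ * x) = 1 := by rw [map_mul, map_inv, hyx, inv_mul_cancel]
    rcases (hd.ker _).1 h2 with h3 | h3
    · left; rwa [← inv_mul_eq_one.1 h3]
    · right
      have h4 : x * c = y := by
        rw [inv_mul_eq_iff_eq_mul.1 h3, mul_assoc, hd.sq, mul_one]
      rwa [h4]
  have hle := torus_le R hG1
  -- the orders
  have hcard1 : Nat.card T' ≤ ∏ i, Nat.card (Hv T' X' i) := by
    have h1 : ∀ i, ((Hv T' X' i).subgroupOf T').Normal := by
      intro i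
      refine ⟨fun x hx t => ?_⟩
      rw [Subgroup.mem_subgroupOf] at hx ⊢
      refine Subgroup.mem_inf.2 ⟨(t * x * t⁻¹).2, ?_⟩
      have h2 := cj_t_Lv R t.2 i
      have h3 : ((t * x * t⁻¹ : T') : L) ∈ cj (t : L) (Lv X' i) := conj_mem_cj.2 (Subgroup.mem_inf.1 hx).2
      rwa [h2] at h3
    have h2 : (⨆ i, (Hv T' X' i).subgroupOf T') = ⊤ := by
      rw [← iSup_subgroupOf (Hv T' X') (fun i => inf_le_left), Subgroup.subgroupOf_eq_top]
      exact hle
    have h3 := card_iSup_le _ h1
    rw [h2, Subgroup.card_top] at h3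
    refine h3.trans (le_of_eq (Finset.prod_congr rfl fun i _ => ?_))
    exact Nat.card_congr (Subgroup.subgroupOfEquivOfLe (inf_le_left)).toEquiv
  have hcard2 : ∀ i, Nat.card (Hv T' X' i) ≤ Nat.card ↥(T ⊓ Lv X i) := by
    intro i
    have hmem : ∀ x : Hv T' X' i, π x ∈ T ⊓ Lv X i := by
      intro x
      refine Subgroup.mem_inf.2 ⟨(Subgroup.mem_inf.1 x.2).1, ?_⟩
      have h1 : (Lv X' i).map π = Lv X i := by
        unfold Lv
        rw [Subgroup.map_sup, map_lft hf hp hd.surj (D.pgrp i),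
          map_lft hf hp hd.surj (D.toRGD.pgrp' (isRoot_sr cs h i).neg)]
      rw [← h1]
      exact Subgroup.mem_map_of_mem π (Subgroup.mem_inf.1 x.2).2
    haveI : Finite G := Finite.of_surjective π hd.surj
    refine Nat.card_le_card_of_injective (fun x : Hv T' X' i => (⟨π x, hmem x⟩ : ↥(T ⊓ Lv X i))) ?_
    intro x y hxy
    have h1 : π x = π y := congrArg Subtype.val hxy
    have h2 : π ((x : L)⁻¹ * y) = 1 := by rw [map_mul, map_inv, h1, inv_mul_cancel]
    rcases (hd.ker _).1 h2 with h3 | h3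
    · exact Subtype.ext (inv_mul_eq_one.1 h3)
    · exfalso
      apply not_mem_Lv hd D i
      rw [← h3]
      exact mul_mem (inv_mem (Subgroup.mem_inf.1 x.2).2) (Subgroup.mem_inf.1 y.2).2
  have hcard3 : Nat.card T' ≤ Nat.card T :=
    hcard1.trans ((Finset.prod_le_prod' fun i _ => hcard2 i).trans D.card_le)
  let ρ : T' → T := fun x => ⟨π x, x.2⟩
  have hρ : Function.Surjective ρ := by
    rintro ⟨t, ht⟩
    refine ⟨⟨g t, ?_⟩, Subtype.ext (hg t)⟩
    show π (g t) ∈ T
    rw [hg t]; exact ht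
  have hinj := (hρ.bijective_of_nat_card_le hcard3).injective
  have hcT : c ∈ T' := by
    show π c ∈ T
    rw [(hd.ker c).2 (Or.inr rfl)]
    exact one_mem T
  have h1 : (⟨c, hcT⟩ : T') = 1 := by
    apply hinj
    apply Subtype.ext
    show π c = π 1
    rw [(hd.ker c).2 (Or.inr rfl), map_one]
  exact hd.ne (congrArg Subtype.val h1)

end

/-- **No perfect double covers.** -/
theorem noDouble {G : Type*} [Group G] (hG : Inst G) : NoDouble G := by
  obtain ⟨I, W, _, _, _, _, M, cs, A, h, p, T, n, X, D⟩ := hG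
  intro L _ _ π c hd
  exact false_of_dbl hd D

end Cfsg.Agent.KFacts.MulOdd.Main
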