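import Cfsg.Agent.Nodes.RGDFoldSL
import Cfsg.Agent.Nodes.RGDLib

/-!
# Rank one groups `SL₂(F)` of a root group datum

`Nd R i φ`: `φ : SL(2, F) →* Y` parametrises the root groups of the fundamental root `i`, the diagonal matrices go to
the torus, `φ (w) = n i` and `φ (-1) ≠ 1`. Then `φ` is injective, its range is `⟨X (sr i), X (-sr i)⟩` and the torus
of the rank one group has order at most `|F| - 1`.
-/

set_option autoImplicit false
set_option linter.unusedSectionVars false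

namespace Cfsg.Agent.KFacts.MulOdd.Node

open CoxeterSystem Cfsg.Agent.ChevalleyStructure.CoxeterGeom Cfsg.Agent.Tits.Roots Cfsg.Agent.Tits.Core
  Cfsg.Agent.Tits.RootComb Cfsg.Agent.Nodes.Comb Cfsg.Agent.Nodes.Reps Cfsg.Agent.Nodes.BNOf Cfsg.Agent.Nodes.BNOf.RGD
open Cfsg.Agent.ChevalleyStructure.SL2Hom (up lo mem_closure_SL2)
open Cfsg.Agent.Nodes.RGDFoldSL (wS hS coe_wS coe_hS lo_eq)
open scoped MatrixGroups

variable {I W Y : Type*} [Fintype I] [DecidableEq I] [Group W] [Group Y] {M : CoxeterMatrix I}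
variable {cs : CoxeterSystem M W} {A : I → I → ℤ} {h : IsCartan M A} {p : ℕ} {T : Subgroup Y} {n : I → Y}
  {X : (I → ℤ) → Subgroup Y}

/-- A homomorphism from `SL(2, F)` onto the rank one group of the node `i`. -/
structure Nd (T : Subgroup Y) (n : I → Y) (X : (I → ℤ) → Subgroup Y) (i : I) {F : Type*} [Field F]
    (φ : SL(2, F) →* Y) : Prop where
  mem : ∀ y, y ∈ X (sr i) ↔ ∃ a, φ (up a) = y
  inj : ∀ a, φ (up a) = 1 → a = 0
  dia : ∀ c, c ≠ 0 → φ (hS c) ∈ T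
  w : φ (wS 1) = n i
  neg : φ (-1) ≠ 1

section Mat

variable {F : Type*} [Field F]

theorem up_zero : up (0 : F) = 1 := by
  apply Subtype.ext
  show (!![1, 0; 0, 1] : Matrix (Fin 2) (Fin 2) F) = 1
  exact Matrix.one_fin_two.symm

theorem up_mul (a b : F) : up a * up b = up (a + b) := by
  apply Subtype.ext
  show (!![1, a; 0, 1] : Matrix (Fin 2) (Fin 2) F) * !![1, b; 0, 1] = !![1, a + b; 0, 1]
  ext i j
  fin_cases i <;> fin_cases j <;> simp [Matrix.mul_apply, Fin.sum_univ_two, add_comm]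

theorem up_inv (a : F) : (up a)⁻¹ = up (-a) := by
  rw [inv_eq_iff_mul_eq_one, up_mul, add_neg_cancel, up_zero]

/-- conjugation of `up` by `diag` -/
theorem hS_up {c : F} (hc : c ≠ 0) (a : F) : hS c * up a * (hS c)⁻¹ = up (c * c * a) := by
  rw [mul_inv_eq_iff_eq_mul]
  apply Subtype.ext
  rw [Matrix.SpecialLinearGroup.coe_mul, Matrix.SpecialLinearGroup.coe_mul, coe_hS hc]
  show _ * (!![1, a; 0, 1] : Matrix (Fin 2) (Fin 2) F) = !![1, c * c * a; 0, 1] * _
  ext i j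
  fin_cases i <;> fin_cases j <;> simp [Matrix.mul_apply, Fin.sum_univ_two]
  field_simp

theorem hS_one : hS (1 : F) = 1 := by
  apply Subtype.ext
  rw [coe_hS one_ne_zero, inv_one, Matrix.SpecialLinearGroup.coe_one]
  exact Matrix.one_fin_two.symm

theorem hS_neg_one : hS (-1 : F) = -1 := by
  apply Subtype.ext
  rw [coe_hS (neg_ne_zero.2 one_ne_zero)]
  ext i j
  fin_cases i <;> fin_cases j <;> simp

/-- Decomposition when the lower left entry vanishes. -/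
theorem eq_of_lower_zero (g : SL(2, F)) (hc : g 1 0 = 0) : ∃ c, c ≠ 0 ∧ ∃ a, g = hS c * up a := by
  have hd := g.det_coe
  rw [Matrix.det_fin_two, hc, mul_zero, sub_zero] at hd
  have h1 : g 0 0 ≠ 0 := left_ne_zero_of_mul_eq_one hd
  refine ⟨g 0 0, h1, (g 0 0)⁻¹ * g 0 1, ?_⟩
  apply Subtype.ext
  rw [Matrix.SpecialLinearGroup.coe_mul, coe_hS h1]
  show (g : Matrix (Fin 2) (Fin 2) F) = _ * (!![1, (g 0 0)⁻¹ * g 0 1; 0, 1] : Matrix (Fin 2) (Fin 2) F)
  ext i j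
  fin_cases i <;> fin_cases j
  · simp [Matrix.mul_apply, Fin.sum_univ_two]
  · simp [Matrix.mul_apply, Fin.sum_univ_two, h1]
  · simpa [Matrix.mul_apply, Fin.sum_univ_two] using hc
  · simp only [Matrix.mul_apply, Fin.sum_univ_two]
    simp
    exact eq_inv_of_mul_eq_one_right hd

/-- The big cell. -/
theorem eq_of_lower_ne (g : SL(2, F)) (hc : g 1 0 ≠ 0) : ∃ a b c, c ≠ 0 ∧ g = up a * (hS c * wS 1) * up b := by
  have hd := g.det_coe
  rw [Matrix.det_fin_two] at hd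
  have hc' : -(g 1 0)⁻¹ ≠ 0 := neg_ne_zero.2 (inv_ne_zero hc)
  refine ⟨g 0 0 * (g 1 0)⁻¹, g 1 1 * (g 1 0)⁻¹, -(g 1 0)⁻¹, hc', ?_⟩
  apply Subtype.ext
  rw [Matrix.SpecialLinearGroup.coe_mul, Matrix.SpecialLinearGroup.coe_mul, Matrix.SpecialLinearGroup.coe_mul,
    coe_hS hc', coe_wS one_ne_zero]
  show (g : Matrix (Fin 2) (Fin 2) F) = (!![1, g 0 0 * (g 1 0)⁻¹; 0, 1] : Matrix (Fin 2) (Fin 2) F) * _ *
    (!![1, g 1 1 * (g 1 0)⁻¹; 0, 1] : Matrix (Fin 2) (Fin 2) F)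
  ext i j
  fin_cases i <;> fin_cases j
  · simp [Matrix.mul_apply, Fin.sum_univ_two, hc]
  · simp [Matrix.mul_apply, Fin.sum_univ_two]
    field_simp
    linear_combination -hd
  · simp [Matrix.mul_apply, Fin.sum_univ_two]
  · simp [Matrix.mul_apply, Fin.sum_univ_two]
    field_simp

theorem lower_zero_of_mul {g : SL(2, F)} {a : F} (h : g * up 1 = up a * g) : g 1 0 = 0 := by
  have h1 : (g * up 1 : SL(2, F)) 1 1 = (up a * g : SL(2, F)) 1 1 := by rw [h]
  rw [Matrix.SpecialLinearGroup.coe_mul, Matrix.SpecialLinearGroup.coe_mul] at h1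
  have h2 : ((g : Matrix (Fin 2) (Fin 2) F) * (!![1, 1; 0, 1] : Matrix (Fin 2) (Fin 2) F)) 1 1 =
    ((!![1, a; 0, 1] : Matrix (Fin 2) (Fin 2) F) * (g : Matrix (Fin 2) (Fin 2) F)) 1 1 := h1
  simpa [Matrix.mul_apply, Fin.sum_univ_two] using h2

end Mat

/-! ### The torus and the root groups -/

theorem eq_one_of_mem [Finite Y] (R : RGD cs h p T n X) {i : I} {x : Y} (hx : x ∈ X (sr i)) (hT : x ∈ T) :
    x = 1 := by
  obtain ⟨k, hk⟩ := R.pgrp i ⟨x, hx⟩
  have h1 : x ^ p ^ k = 1 := congrArg Subtype.val hk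
  have h2 : orderOf x ∣ Nat.card T := Subgroup.orderOf_dvd_natCard _ hT
  have h3 : orderOf x ∣ p ^ k := orderOf_dvd_of_pow_eq_one h1
  rw [← orderOf_eq_one_iff]
  exact Nat.eq_one_of_dvd_coprimes (R.tcop.pow_right k) h2 h3

section Nd

variable {i : I} {F : Type*} [Field F] {φ : SL(2, F) →* Y} (R : RGD cs h p T n X) (N : Nd T n X i φ)

include R N

theorem Nd.injective [Finite Y] : Function.Injective φ := by
  rw [injective_iff_map_eq_one]
  intro g hg
  by_cases hc : g 1 0 = 0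
  · obtain ⟨c, hc0, a, rfl⟩ := eq_of_lower_zero g hc
    rw [map_mul] at hg
    have ha : φ (up a) ∈ T := by
      rw [eq_inv_of_mul_eq_one_right hg]
      exact inv_mem (N.dia c hc0)
    have ha0 : a = 0 := N.inj a (eq_one_of_mem R ((N.mem _).2 ⟨a, rfl⟩) ha)
    subst ha0
    rw [up_zero, map_one, mul_one] at hg
    have h1 : φ (hS c * up 1 * (hS c)⁻¹) = φ (up 1) := by
      rw [map_mul, map_mul, map_inv, hg, one_mul, inv_one, mul_one]
    rw [hS_up hc0, mul_one] at h1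
    have h2 : φ (up (c * c + -1)) = 1 := by
      rw [← up_mul, map_mul, h1, ← map_mul, up_mul, add_neg_cancel, up_zero, map_one]
    have h3 := N.inj _ h2
    have h4 : (c - 1) * (c + 1) = 0 := by linear_combination h3
    rcases mul_eq_zero.1 h4 with h5 | h5
    · have : c = 1 := by linear_combination h5
      rw [this, hS_one, up_zero, mul_one]
    · have : c = -1 := by linear_combination h5
      subst this
      rw [hS_neg_one] at hg
      exact absurd hg N.neg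
  · exfalso
    obtain ⟨a, b, c, hc0, rfl⟩ := eq_of_lower_ne g hc
    rw [map_mul, map_mul, map_mul, N.w] at hg
    have hX : ∀ a, φ (up a) ∈ X (sr i) := fun a => (N.mem _).2 ⟨a, rfl⟩
    have hni : n i = (φ (hS c))⁻¹ * ((φ (up a))⁻¹ * (φ (up b))⁻¹) := by
      have h1 : φ (up a) * (φ (hS c) * n i) = (φ (up b))⁻¹ := eq_inv_of_mul_eq_one_left hg
      rw [← h1]; group
    have h2 : cj (n i) (X (sr i)) = X (sr i) := by
      rw [hni, cj_mul, cj_eq_of_mem (mul_mem (inv_mem (hX a)) (inv_mem (hX b)))]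
      exact R.tor _ (isRoot_sr cs h i) _ (inv_mem (N.dia c hc0))
    rw [R.conj i _ (isRoot_sr cs h i), rep_simple_sr] at h2
    apply R.notp i
    rw [h2, sup_idem]
    exact R.pgrp i

theorem Nd.conj_eq (y : Y) : y ∈ X (-sr i) ↔ ∃ a, φ (wS 1 * up a * (wS 1)⁻¹) = y := by
  rw [← rep_simple_sr cs h i, ← R.conj i _ (isRoot_sr cs h i), mem_cj, N.mem]
  constructor
  · rintro ⟨a, ha⟩
    refine ⟨a, ?_⟩
    rw [map_mul, map_mul, map_inv, N.w, ha]
    group
  · rintro ⟨a, rfl⟩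
    refine ⟨a, ?_⟩
    rw [map_mul, map_mul, map_inv, N.w]
    group

theorem Nd.range : φ.range = X (sr i) ⊔ X (-sr i) := by
  apply le_antisymm
  · rintro _ ⟨g, rfl⟩
    have h1 : Subgroup.closure (Set.range (up (F := F)) ∪ Set.range (lo (F := F))) ≤
        (X (sr i) ⊔ X (-sr i)).comap φ := by
      rw [Subgroup.closure_le]
      rintro _ (⟨a, rfl⟩ | ⟨a, rfl⟩)
      · exact (le_sup_left : X (sr i) ≤ _) ((N.mem _).2 ⟨a, rfl⟩)
      · refine (le_sup_right : X (-sr i) ≤ _) ((N.conj_eq R _).2 ⟨-a, ?_⟩)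
        rw [← lo_eq]
    exact h1 (mem_closure_SL2 g)
  · refine sup_le ?_ ?_
    · intro y hy
      obtain ⟨a, rfl⟩ := (N.mem y).1 hy
      exact ⟨_, rfl⟩
    · intro y hy
      obtain ⟨a, rfl⟩ := (N.conj_eq R y).1 hy
      exact ⟨_, rfl⟩

theorem Nd.exists_hS [Finite Y] {t : Y} (ht : t ∈ T) (hr : t ∈ X (sr i) ⊔ X (-sr i)) :
    ∃ c : F, c ≠ 0 ∧ t = φ (hS c) := by
  rw [← N.range R] at hr
  obtain ⟨g, rfl⟩ := hr
  have h1 : φ g * φ (up 1) * (φ g)⁻¹ ∈ X (sr i) := by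
    rw [← R.tor _ (isRoot_sr cs h i) _ ht]
    exact conj_mem_cj.2 ((N.mem _).2 ⟨1, rfl⟩)
  obtain ⟨a, ha⟩ := (N.mem _).1 h1
  have h2 : up a = g * up 1 * g⁻¹ := N.injective R (by rw [ha, map_mul, map_mul, map_inv])
  have h3 : g * up 1 = up a * g := by rw [h2]; group
  obtain ⟨c, hc0, b, rfl⟩ := eq_of_lower_zero g (lower_zero_of_mul h3)
  refine ⟨c, hc0, ?_⟩
  rw [map_mul] at ht ⊢
  have hb : φ (up b) ∈ T := (Subgroup.mul_mem_cancel_left _ (N.dia c hc0)).1 ht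
  rw [eq_one_of_mem R ((N.mem _).2 ⟨b, rfl⟩) hb, mul_one]

theorem Nd.card_torus [Finite Y] [Finite F] : Nat.card ↥(T ⊓ (X (sr i) ⊔ X (-sr i))) ≤ Nat.card F - 1 := by
  have : Finite Fˣ := inferInstance
  have h1 : Nat.card ↥(T ⊓ (X (sr i) ⊔ X (-sr i))) ≤ Nat.card Fˣ := by
    have key : ∀ t : ↥(T ⊓ (X (sr i) ⊔ X (-sr i))), ∃ c : Fˣ, (t : Y) = φ (hS (c : F)) := by
      rintro ⟨t, ht⟩
      obtain ⟨c, hc, e⟩ := N.exists_hS R (Subgroup.mem_inf.1 ht).1 (Subgroup.mem_inf.1 ht).2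
      exact ⟨Units.mk0 c hc, e⟩
    choose f hf using key
    refine Nat.card_le_card_of_injective f fun a b hab => ?_
    exact Subtype.ext (by rw [hf, hf, hab])
  rwa [Nat.card_units] at h1

end Nd

end Cfsg.Agent.KFacts.MulOdd.Node
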