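import Cfsg.Agent.KFacts.MulOdd.Node
import Cfsg.Agent.KFacts.MulOdd.Inst

/-!
# From the nodes to the datum
-/

set_option autoImplicit false
set_option linter.unusedSectionVars false

namespace Cfsg.Agent.KFacts.MulOdd.Node

open CoxeterSystem Cfsg.Agent.ChevalleyStructure.CoxeterGeom Cfsg.Agent.Tits.Roots Cfsg.Agent.Tits.Core
  Cfsg.Agent.Nodes.Reps Cfsg.Agent.Nodes.BNOf Cfsg.Agent.Nodes.RGDLib Cfsg.Agent.KFacts.MulOdd.Inst
open scoped MatrixGroups

/-- **The datum from the nodes.** -/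
theorem datum_of_nd {I W Y : Type*} [Fintype I] [DecidableEq I] [Group W] [Group Y] [Finite Y]
    {M : CoxeterMatrix I} {cs : CoxeterSystem M W} {A : I → I → ℤ} {h : IsCartan M A} {p : ℕ} {T : Subgroup Y}
    {n : I → Y} {X : (I → ℤ) → Subgroup Y} (R : RGD cs h p T n X) (gen : G1 cs h X = ⊤) (hp : p.Prime)
    (hp2 : p ≠ 2) (F : I → Type) [∀ i, Field (F i)] [∀ i, Finite (F i)] (φ : ∀ i, SL(2, F i) →* Y)
    (N : ∀ i, Nd T n X i (φ i)) (hodd : ∀ i, Odd (Nat.card (F i)))
    (hcard : ∏ i, (Nat.card (F i) - 1) ≤ Nat.card T) : Datum cs h p T n X where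
  toRGD := R
  gen := gen
  prime := hp
  odd := hp2
  card_le := (Finset.prod_le_prod' fun i _ => (N i).card_torus R).trans hcard
  slt := fun i => ⟨F i, inferInstance, inferInstance, φ i, hodd i, (N i).injective R, (N i).range R⟩

end Cfsg.Agent.KFacts.MulOdd.Node
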