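import Cfsg.Agent.OddHalf.U2.Cut
import Cfsg.Agent.KFacts.MulY.Tower
import Cfsg.Agent.KFacts.MulOdd.TypeA

/-!
# Rows of U2 from multiplier facts

`row_of`: if every group of type `P` has no perfect double cover then no standard subgroup `K` with nontrivial centre
has `K / Z(K)` of type `P`.
-/

set_option autoImplicit false

namespace Cfsg.Agent.KFacts.MulOdd.Rows

open Subgroup Cfsg Cfsg.Agent.OddHalf.Iface Cfsg.Agent.OddHalf.LieOddFam Cfsg.Agent.OddHalf.U2.Cut
  Cfsg.Agent.KFacts.MulDef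

universe u

theorem not_qsTwo {K : Type u} [Group K] (h : NoDouble (K ⧸ center K)) : ¬ QsTwo K := by
  rintro ⟨hfin, hq, h2, hz⟩
  exact hz (MulY.Tower.center_eq_bot h hq.1.commutator_eq_top h2 (MulEquiv.refl _))

theorem row_of {P : (X : Type u) → [Group X] → Prop} (hP : ∀ (X : Type u) [Group X], P X → NoDouble X) :
    Row.{u} P := fun _ _ C _ S hz h => not_qsTwo (hP _ h) (qsTwo C S hz)

theorem l3 : Row.{u} (fun X _ => ∃ (F : Type) (_ : Field F) (_ : Fintype F), Fintype.card F = 3 ∧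
    Nonempty (X ≃* Matrix.ProjectiveSpecialLinearGroup (Fin 3) F)) := by
  refine row_of fun X _ => ?_
  rintro ⟨F, _, _, hF, ⟨e⟩⟩
  exact (TypeA.noDouble_L33 (by rw [Nat.card_eq_fintype_card, hF])).congr e.symm

end Cfsg.Agent.KFacts.MulOdd.Rows
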