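import Cfsg.Agent.KFacts.MulOdd.Rows
import Cfsg.Agent.KFacts.MulOdd.Main
import Cfsg.Agent.KFacts.MulOdd.U3
import Cfsg.Agent.KFacts.MulOdd.InstTw

/-!
# U2: the rows over the field with three elements whose central quotient has odd multiplier
-/

set_option autoImplicit false

namespace Cfsg.Agent.KFacts.MulOdd.ThreeOdd

open Subgroup Cfsg Cfsg.Agent.OddHalf.Iface Cfsg.Agent.OddHalf.LieOddFam Cfsg.Agent.OddHalf.U2.Cut
  Cfsg.Agent.KFacts.MulDef Cfsg.Agent.KFacts.MulOdd.Rows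

universe u

theorem charP_three {F : Type} [Field F] [Fintype F] {n : ℕ} (h : Fintype.card F = 3 ^ n) : CharP F 3 := by
  haveI : Fact (Nat.Prime 3) := ⟨Nat.prime_three⟩
  exact charP_of_card_eq_prime_pow h

theorem u3 : Row.{u} (fun X _ => ∃ (F : Type) (_ : Field F) (_ : Fintype F), Fintype.card F = 9 ∧
    Nonempty (X ≃* PSU 3 F 3)) := by
  refine row_of fun X _ => ?_
  rintro ⟨F, _, _, hF, ⟨e⟩⟩
  exact (U3.noDouble_PSU (q := 3) (by rw [hF]; norm_num) ⟨1, rfl⟩).congr e.symm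

theorem g2 : Row.{u} (fun X _ => FG2 X 3) := by
  refine row_of fun X _ => ?_
  rintro ⟨F, _, _, hF, ⟨e⟩⟩
  haveI : CharP F 3 := charP_three (n := 1) (by rw [hF]; norm_num)
  exact (Main.noDouble (InstChev.inst_G2 F 3 (by norm_num))).congr e.symm

theorem f4 : Row.{u} (fun X _ => FF4 X 3) := by
  refine row_of fun X _ => ?_
  rintro ⟨F, _, _, hF, ⟨e⟩⟩
  haveI : CharP F 3 := charP_three (n := 1) (by rw [hF]; norm_num)
  exact (Main.noDouble (InstChev.inst_F4 F 3 (by norm_num))).congr e.symm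

theorem e6 : Row.{u} (fun X _ => FE6 X 3) := by
  refine row_of fun X _ => ?_
  rintro ⟨F, _, _, hF, ⟨e⟩⟩
  haveI : CharP F 3 := charP_three (n := 1) (by rw [hF]; norm_num)
  exact (Main.noDouble (InstChev.inst_E6 F 3 (by norm_num)
    (by rw [Nat.card_eq_fintype_card, hF]; norm_num))).congr e.symm

theorem e8 : Row.{u} (fun X _ => FE8 X 3) := by
  refine row_of fun X _ => ?_
  rintro ⟨F, _, _, hF, ⟨e⟩⟩
  haveI : CharP F 3 := charP_three (n := 1) (by rw [hF]; norm_num)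
  exact (Main.noDouble (InstChev.inst_E8 F 3 (by norm_num))).congr e.symm

theorem twE6 : Row.{u} (fun X _ => F2E6 X 3) := by
  refine row_of fun X _ => ?_
  rintro ⟨F, _, _, hF, ⟨e⟩⟩
  haveI : CharP F 3 := charP_three (n := 2) hF
  exact (Main.noDouble (InstTw.inst_E6 (q := 3) Nat.prime_three.isPrimePow 3 (by norm_num) hF
    (by norm_num))).congr e.symm

theorem twD4 : Row.{u} (fun X _ => F3D4 X 3) := by
  refine row_of fun X _ => ?_
  rintro ⟨F, _, _, hF, ⟨e⟩⟩
  haveI : CharP F 3 := charP_three (n := 3) hF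
  exact (Main.noDouble (InstTw.inst_D4 (q := 3) Nat.prime_three.isPrimePow 3 (by norm_num) hF)).congr e.symm

/-- **The rows `ThreeOdd` of U2.** -/
theorem threeOdd : Cfsg.Agent.OddHalf.U2.Cut.ThreeOdd.{u} where
  l3 := l3
  u3 := u3
  g2 := g2
  f4 := f4
  e6 := e6
  e8 := e8
  twE6 := twE6
  twD4 := twD4

end Cfsg.Agent.KFacts.MulOdd.ThreeOdd
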