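import Mathlib
import Cfsg.Agent.KFacts.MulOdd.Main
import Cfsg.Agent.Nodes.RGDTypeA

/-!
# No perfect double covers: wreathed Sylow 2-subgroups

* `not_mem_gen` : in a double cover `L → G` a subgroup generated by `p`-elements, `p` odd, with image `SL(2, F)`, `|F|`
  odd, does not contain the central involution;
* `Wr D A P x w` : `D ≅ SL(2, F)`, `P = A ∪ A w` of odd index with `A` abelian, `A = (A ∩ D) ⟨x⟩`, `A` normalises `D`,
  `w ∈ D`, `C_A(w)` centralises `D`;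
* `Wr.noDouble`.
-/

set_option autoImplicit false
set_option linter.style.haveILetI false

namespace Cfsg.Agent.KFacts.MulOdd.Wreathed

open Subgroup Cfsg.Agent.Nodes.Reps Cfsg.Agent.Nodes.RGDLift Cfsg.Agent.KFacts.MulDef Cfsg.Agent.KFacts.MulOdd.Inst
  Cfsg.Agent.KFacts.MulOdd.Main Cfsg.Agent.KFacts.MulOdd.RankOne Cfsg.Agent.KFacts.MulTwo
open scoped commutatorElement

variable {L G : Type*} [Group L] [Finite L] [Group G] {π : L →* G} {c : L}

omit [Finite L] in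
theorem eq_or {x y : L} (hd : Dbl π c) (h : π x = π y) : x = y ∨ x = y * c := by
  have h1 : π (y⁻¹ * x) = 1 := by rw [map_mul, map_inv, h, inv_mul_cancel]
  rcases (hd.ker _).1 h1 with h2 | h2
  · left; exact (inv_mul_eq_one.1 h2).symm
  · right; rw [← h2]; group

/-- A subgroup generated by `p`-elements with image `SL(2, F)` does not contain `c`. -/
theorem not_mem_gen (hd : Dbl π c) {p : ℕ} (hp : p.Prime) (hp2 : p ≠ 2) {S : Set L}
    (hS : ∀ x ∈ S, ∃ k : ℕ, x ^ p ^ k = 1) (hsl : IsSLTwo ((closure S).map π)) : c ∉ closure S := by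
  intro hc
  set H : Subgroup L := closure S with hH
  obtain ⟨F, _, _, φ, hF, hφ, hr⟩ := hsl
  haveI : Fintype F := Fintype.ofFinite F
  rw [Nat.card_eq_fintype_card] at hF
  haveI : Fact (Nat.Prime 2) := ⟨Nat.prime_two⟩
  let P0 : Sylow 2 (Matrix.SpecialLinearGroup (Fin 2) F) := default
  obtain ⟨k, -, ⟨e⟩⟩ := Cfsg.Agent.S0261.result hF P0
  have hmem : ∀ x : H, π x ∈ φ.range := by
    intro x
    rw [hr]
    exact Subgroup.mem_map_of_mem π x.2
  let f : H →* Matrix.SpecialLinearGroup (Fin 2) F :=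
    (MonoidHom.ofInjective hφ).symm.toMonoidHom.comp ((π.comp H.subtype).codRestrict φ.range hmem)
  have hfφ : ∀ x : H, φ (f x) = π x := by
    intro x
    exact MonoidHom.apply_ofInjective_symm hφ ⟨π x, hmem x⟩
  have hfs : Function.Surjective f := by
    intro y
    have h1 : φ y ∈ H.map π := by rw [← hr]; exact ⟨y, rfl⟩
    obtain ⟨x, hx, hxy⟩ := h1
    exact ⟨⟨x, hx⟩, hφ ((hfφ ⟨x, hx⟩).trans hxy)⟩
  have hfk : ∀ x : H, f x = 1 ↔ x = 1 ∨ x = ⟨c, hc⟩ := by
    intro x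
    rw [← hφ.eq_iff, hfφ, map_one, hd.ker, Subtype.ext_iff, Subtype.ext_iff]
    rfl
  have hgen : Subgroup.closure {x : H | ∃ k : ℕ, x ^ p ^ k = 1} = ⊤ := by
    set K := Subgroup.closure {x : H | ∃ k : ℕ, x ^ p ^ k = 1} with hK
    have h2 : closure S ≤ K.map H.subtype := by
      rw [Subgroup.closure_le]
      intro y hy
      obtain ⟨k, hk⟩ := hS y hy
      exact ⟨⟨y, Subgroup.subset_closure hy⟩, Subgroup.subset_closure ⟨k, Subtype.ext hk⟩, rfl⟩
    rw [eq_top_iff]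
    intro x _
    obtain ⟨z, hz, hzx⟩ := h2 x.2
    have : z = x := Subtype.ext hzx
    rwa [← this]
  exact false_of_quaternion hfs (c := (⟨c, hc⟩ : H)) (fun h0 => hd.ne (congrArg Subtype.val h0))
    (fun x => Subtype.ext (hd.cen x)) hfk hp hp2 hgen P0.not_dvd_index e

/-- **The lift of a subgroup `SL(2, F)`.** -/
theorem exists_lift_slt (hd : Dbl π c) {D : Subgroup G} (hD : IsSLTwo D) :
    ∃ p : ℕ, (lft p π D).map π = D ∧ c ∉ lft p π D := by
  obtain ⟨F, _, _, φ, hF, hφ, hr⟩ := hD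
  haveI := Fintype.ofFinite F
  obtain ⟨p, hchar⟩ := CharP.exists F
  have hpp : p.Prime := (CharP.char_is_prime_or_zero F p).resolve_right (CharP.char_ne_zero_of_finite F p)
  haveI : Fact p.Prime := ⟨hpp⟩
  have hp2 : p ≠ 2 := by
    rintro rfl
    obtain ⟨k, -, hk⟩ := FiniteField.card F 2
    rw [Nat.card_eq_fintype_card, hk] at hF
    exact (Nat.not_even_iff_odd.mpr hF) (Nat.even_pow.mpr ⟨even_two, k.pos.ne'⟩)
  have hcop : (Nat.card π.ker).Coprime p := by
    rw [card_ker hd]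
    exact (Nat.coprime_primes Nat.prime_two hpp).2 (Ne.symm hp2)
  have hmap : (lft p π D).map π = D := by
    have h0 : D = closure (φ '' LieClassical.SLGen.transvections (Fin 2) F) := by
      rw [← hr, MonoidHom.range_eq_map, ← LieClassical.SLGen.closure_transvections (ι := Fin 2) (F := F),
        MonoidHom.map_closure]
    apply le_antisymm (map_lft_le p π D)
    refine h0.le.trans ((Subgroup.closure_le _).2 ?_)
    rintro _ ⟨_, ⟨i, j, hij, t, rfl⟩, rfl⟩
    have h1 : Matrix.SpecialLinearGroup.transvection hij t ^ p = 1 := by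
      have key : ∀ k : ℕ, Matrix.SpecialLinearGroup.transvection hij t ^ k =
          Matrix.SpecialLinearGroup.transvection hij (k • t) := by
        intro k
        have h2 := Cfsg.Agent.Nodes.RGDTypeA.tv_pow i j t k
        rwa [Cfsg.Agent.TitsThree.KSideA.tv_of_ne hij, Cfsg.Agent.TitsThree.KSideA.tv_of_ne hij] at h2
      rw [key, nsmul_eq_mul, CharP.cast_eq_zero, zero_mul]
      have h3 := Cfsg.Agent.TitsThree.KSideA.tv_zero (F := F) i j
      rwa [Cfsg.Agent.TitsThree.KSideA.tv_of_ne hij] at h3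
    obtain ⟨y, hy⟩ := hd.surj (φ (Matrix.SpecialLinearGroup.transvection hij t))
    have h2 : π y ^ p ^ 1 = 1 := by rw [hy, pow_one, ← map_pow, h1, map_one]
    obtain ⟨x, hx, hxk⟩ := exists_lift hcop h2
    refine ⟨x, Subgroup.subset_closure ⟨?_, 1, hxk⟩, by rw [hx, hy]⟩
    rw [hx, hy, ← hr]
    exact ⟨_, rfl⟩
  refine ⟨p, hmap, ?_⟩
  refine not_mem_gen hd hpp hp2 (fun x hx => hx.2) ?_
  have h1 : (closure {y | π y ∈ D ∧ ∃ k : ℕ, y ^ p ^ k = 1}).map π = D := hmap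
  rw [h1]
  exact ⟨F, _, ‹_›, φ, hF, hφ, hr⟩

/-- A subgroup of odd index of wreathed type. -/
structure Wr (D A P : Subgroup G) (x w : G) : Prop where
  slt : IsSLTwo D
  comm : ∀ y ∈ A, ∀ z ∈ A, y * z = z * y
  norm : ∀ y ∈ A, ∀ d ∈ D, y * d * y⁻¹ ∈ D
  xA : x ∈ A
  gen : ∀ y ∈ A, ∃ k : ℤ, y * x ^ k ∈ D
  wD : w ∈ D
  wA : ∀ y ∈ A, w * y * w⁻¹ ∈ A
  AP : A ≤ P
  wP : w ∈ P
  cov : ∀ s ∈ P, s ∈ A ∨ ∃ y ∈ A, s = y * w
  cen : ∀ y ∈ A, y * w = w * y → ∀ d ∈ D, y * d = d * y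
  idx : ¬ 2 ∣ P.index

theorem Wr.false {D A P : Subgroup G} {x w : G} (h : Wr D A P x w) (hd : Dbl π c) : False := by
  obtain ⟨p, hmap, hcD⟩ := exists_lift_slt hd h.slt
  set D1 : Subgroup L := lft p π D with hD1
  -- elements normalising `D` and commuting modulo `c`
  have hcj : ∀ y : L, (∀ d ∈ D, π y * d * (π y)⁻¹ ∈ D) → (∀ d ∈ D, (π y)⁻¹ * d * π y ∈ D) →
      ∀ d ∈ D1, y * d * y⁻¹ ∈ D1 := by
    intro y hy hy' d hd1
    have h1 : cj (π y) D = D := by
      ext z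
      rw [mem_cj]
      constructor
      · intro hz
        have := hy _ hz
        have e : π y * ((π y)⁻¹ * z * π y) * (π y)⁻¹ = z := by group
        rwa [e] at this
      · intro hz
        exact hy' z hz
    have h2 := cj_lft p π D y
    rw [h1] at h2
    rw [← hD1] at h2
    rw [← h2]
    exact conj_mem_cj.2 hd1
  have hcomm : ∀ y : L, (∀ d ∈ D, π y * d * (π y)⁻¹ ∈ D) → (∀ d ∈ D, (π y)⁻¹ * d * π y ∈ D) →
      ∀ d ∈ D1, π y * π d = π d * π y → y * d = d * y := by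
    intro y hy hy' d hd1 hyd
    have h1 : y * d * y⁻¹ * d⁻¹ ∈ D1 := mul_mem (hcj y hy hy' d hd1) (inv_mem hd1)
    have h2 : π (y * d * y⁻¹ * d⁻¹) = 1 := by
      rw [map_mul, map_mul, map_mul, hyd, map_inv, map_inv]; group
    rcases (hd.ker _).1 h2 with h3 | h3
    · calc y * d = (y * d * y⁻¹ * d⁻¹) * d * y := by group
        _ = d * y := by rw [h3, one_mul]
    · exact absurd (h3 ▸ h1) hcD
  have hnA : ∀ y : L, π y ∈ A → (∀ d ∈ D, π y * d * (π y)⁻¹ ∈ D) ∧ (∀ d ∈ D, (π y)⁻¹ * d * π y ∈ D) := by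
    intro y hy
    refine ⟨fun d hd' => h.norm _ hy d hd', fun d hd' => ?_⟩
    have := h.norm _ (inv_mem hy) d hd'
    rwa [inv_inv] at this
  -- (i)
  have hi : ∀ y : L, π y ∈ A → ∀ d ∈ D1, π d ∈ A → y * d = d * y := fun y hy d hd1 hdA =>
    hcomm y (hnA y hy).1 (hnA y hy).2 d hd1 (h.comm _ hy _ hdA)
  -- (iii)
  obtain ⟨x1, hx1⟩ := hd.surj x
  have hx1A : π x1 ∈ A := by rw [hx1]; exact h.xA
  have hform : ∀ y : L, π y ∈ A → ∃ d ∈ D1, ∃ k : ℤ, π d ∈ A ∧ (y = d * x1 ^ k ∨ y = d * x1 ^ k * c) := by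
    intro y hy
    obtain ⟨k, hk⟩ := h.gen _ hy
    rw [← hmap] at hk
    obtain ⟨d, hd1, hdk⟩ := hk
    refine ⟨d, hd1, -k, ?_, ?_⟩
    · rw [hdk]
      exact mul_mem hy (zpow_mem h.xA k)
    · refine eq_or hd ?_
      rw [map_mul, hdk, map_zpow, hx1]
      group
  have hab : ∀ y : L, π y ∈ A → ∀ z : L, π z ∈ A → y * z = z * y := by
    intro y hy z hz
    obtain ⟨d, hd1, k, hdA, hyd⟩ := hform y hy
    obtain ⟨e, he1, l, heA, hze⟩ := hform z hz
    have hcc : ∀ g : L, Commute g c := fun g => (hd.cen g).symm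
    have c1 : Commute d e := hi d hdA e he1 heA
    have c2 : Commute d (x1 ^ l) := (show Commute x1 d from hi x1 hx1A d hd1 hdA).symm.zpow_right l
    have c3 : Commute e (x1 ^ k) := (show Commute x1 e from hi x1 hx1A e he1 heA).symm.zpow_right k
    have c4 : Commute (x1 ^ k) (x1 ^ l) := (Commute.refl x1).zpow_zpow k l
    have c5 : Commute (d * x1 ^ k) (e * x1 ^ l) :=
      (c1.mul_right c2).mul_left (c3.symm.mul_right c4)
    rcases hyd with rfl | rfl <;> rcases hze with rfl | rfl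
    · exact c5
    · exact c5.mul_right (hcc _)
    · exact c5.mul_left (hcc _).symm
    · exact (c5.mul_right (hcc _)).mul_left ((hcc _).symm)
  -- (iv)
  have hw : w ∈ D1.map π := by rw [hmap]; exact h.wD
  obtain ⟨b, hb1, hbw⟩ := hw
  set Q : Subgroup L := P.comap π with hQ
  have hcQ : c ∈ Q := by
    show π c ∈ P
    rw [(hd.ker c).2 (Or.inr rfl)]
    exact one_mem P
  have hbQ : b ∈ Q := by
    show π b ∈ P
    rw [hbw]; exact h.wP
  let A' : Subgroup Q := (A.comap π).subgroupOf Q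
  have hA' : ∀ y ∈ A', ∀ z ∈ A', y * z = z * y := fun y hy z hz =>
    Subtype.ext (hab y (Subgroup.mem_subgroupOf.1 hy) z (Subgroup.mem_subgroupOf.1 hz))
  have hbA' : ∀ y ∈ A', (⟨b, hbQ⟩ : Q) * y * (⟨b, hbQ⟩ : Q)⁻¹ ∈ A' := by
    intro y hy
    have h1 : π y ∈ A := Subgroup.mem_subgroupOf.1 hy
    have h2 := h.wA _ h1
    rw [← hbw, ← map_mul, ← map_inv, ← map_mul] at h2
    exact Subgroup.mem_subgroupOf.2 h2
  have hcov : ∀ s : Q, s ∈ A' ∨ ∃ y ∈ A', s = y * ⟨b, hbQ⟩ := by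
    intro s
    rcases h.cov (π s) s.2 with h1 | ⟨y, hy, hs⟩
    · left; exact Subgroup.mem_subgroupOf.2 h1
    · right
      refine ⟨s * ⟨b, hbQ⟩⁻¹, ?_, by group⟩
      refine Subgroup.mem_subgroupOf.2 ?_
      show π ((s : L) * b⁻¹) ∈ A
      rw [map_mul, map_inv, hs, hbw, mul_inv_cancel_right]
      exact hy
  have hnot : (⟨c, hcQ⟩ : Q) ∉ commutator Q := by
    intro hmem
    obtain ⟨y, hy, hcy⟩ := commutator_le hA' hbA' hcov hmem
    have hyA : π y ∈ A := Subgroup.mem_subgroupOf.1 hy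
    have hcy' : c = y * (b * (y : L)⁻¹ * b⁻¹) := congrArg Subtype.val hcy
    have h1 : π y * w = w * π y := by
      have h2 : π (y * (b * (y : L)⁻¹ * b⁻¹)) = 1 := by rw [← hcy']; exact (hd.ker c).2 (Or.inr rfl)
      rw [map_mul, map_mul, map_mul, map_inv, map_inv, hbw] at h2
      calc π y * w = (π y * (w * (π y)⁻¹ * w⁻¹)) * w * π y := by group
        _ = w * π y := by rw [h2, one_mul]
    have h3 : (y : L) * b = b * y := by
      refine hcomm y (hnA y hyA).1 (hnA y hyA).2 b hb1 ?_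
      rw [hbw]; exact h1
    apply hd.ne
    rw [hcy']
    calc (y : L) * (b * (y : L)⁻¹ * b⁻¹) = (y : L) * b * (y : L)⁻¹ * b⁻¹ := by group
      _ = 1 := by rw [h3]; group
  have hidx : ¬ 2 ∣ Q.index := by
    rw [hQ, P.index_comap_of_surjective hd.surj]
    exact h.idx
  have h1 := hd.toCtr.hom_eq_one hcQ hidx (Abelianization.of (G := Q))
  exact hnot ((QuotientGroup.eq_one_iff (N := commutator Q) _).1 h1)

/-- **No perfect double covers.** -/
theorem Wr.noDouble {D A P : Subgroup G} {x w : G} (h : Wr D A P x w) : NoDouble G :=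
  fun _ _ _ _ _ hd => h.false hd

end Cfsg.Agent.KFacts.MulOdd.Wreathed
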