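import Mathlib
import Cfsg.Agent.S0278
import Cfsg.Agent.S0279
import Cfsg.Agent.S0281
import Cfsg.Agent.KFacts.MulOdd.TypeA
import Cfsg.Agent.KFacts.MulOdd.Wreathed

/-!
# `SU(3, q)`, `q ≡ 3 mod 4`, has no perfect double cover

* `jj : SU 2 F q →* SU 3 F q`; `AA` the diagonal matrices, `PP` the Sylow 2-subgroup times an odd group;
* `wr` : `Wreathed.Wr`; `noDouble_SU`, `noDouble_PSU` (`3 ∤ q + 1`).
-/

set_option autoImplicit false
set_option linter.unusedSectionVars false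
set_option linter.unusedSimpArgs false
set_option linter.style.haveILetI false

namespace Cfsg.Agent.KFacts.MulOdd.UThree

open Matrix Cfsg Cfsg.Agent.LieClassical.HermBasic Cfsg.Agent.Nodes.RGDTypeA Cfsg.Agent.KFacts.MulOdd.TypeA
  Cfsg.Agent.KFacts.MulOdd.Inst Cfsg.Agent.KFacts.MulOdd.Wreathed Cfsg.Agent.KFacts.MulDef

variable {F : Type} [Field F] [Fintype F] {q : ℕ}

theorem h01 : (0 : Fin 3) ≠ 1 := by decide

theorem blk_mem {y : SpecialLinearGroup (Fin 2) F} (hy : y ∈ SU 2 F q) : blk (F := F) h01 y ∈ SU 3 F q := by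
  rw [mem_SU_iff] at hy ⊢
  intro u v
  have h1 := hy ![u 0, u 1] ![v 0, v 1]
  simp only [herm_def, Fin.sum_univ_two, Fin.sum_univ_three, Matrix.mulVec, dotProduct] at h1 ⊢
  simp at h1
  have e : (blk (F := F) h01 y : Matrix (Fin 3) (Fin 3) F) = NN 0 1 y.1 := rfl
  rw [e]
  simp [NN]
  linear_combination h1

/-- The embedding of `SU(2, q)`. -/
def jj (F : Type) [Field F] [Fintype F] (q : ℕ) : SU 2 F q →* SU 3 F q :=
  ((blk (F := F) h01).comp (SU 2 F q).subtype).codRestrict (SU 3 F q) fun y => blk_mem y.2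

theorem jj_val (y : SU 2 F q) : ((jj F q y).1 : Matrix (Fin 3) (Fin 3) F) = NN 0 1 y.1.1 := rfl

theorem jj_injective : Function.Injective (jj F q) := by
  intro x y hxy
  exact Subtype.ext (blk_injective h01 (congrArg Subtype.val hxy))

theorem mem_range_jj {g : SU 3 F q} : g ∈ (jj F q).range ↔
    g.1.1 0 2 = 0 ∧ g.1.1 1 2 = 0 ∧ g.1.1 2 0 = 0 ∧ g.1.1 2 1 = 0 ∧ g.1.1 2 2 = 1 := by
  constructor
  · rintro ⟨y, rfl⟩
    rw [jj_val]
    simp [NN]
  · rintro ⟨h1, h2, h3, h4, h5⟩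
    have hdet := g.1.2
    rw [Matrix.det_fin_three] at hdet
    simp only [h1, h2, h3, h4, h5] at hdet
    have hg := (mem_SU_iff g.1).1 g.2
    let y : SpecialLinearGroup (Fin 2) F := ⟨!![g.1.1 0 0, g.1.1 0 1; g.1.1 1 0, g.1.1 1 1], by
      rw [Matrix.det_fin_two_of]; linear_combination hdet⟩
    have hy : y ∈ SU 2 F q := by
      rw [mem_SU_iff]
      intro u v
      have h6 := hg ![u 0, u 1, 0] ![v 0, v 1, 0]
      simp only [herm_def, Fin.sum_univ_two, Fin.sum_univ_three, Matrix.mulVec, dotProduct] at h6 ⊢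
      simp [h1, h2, h3, h4, h5] at h6
      simp [y]
      linear_combination h6
    refine ⟨⟨y, hy⟩, ?_⟩
    apply Subtype.ext
    apply Subtype.ext
    rw [jj_val]
    ext i j
    fin_cases i <;> fin_cases j <;> simp [NN, y, h1, h2, h3, h4, h5]

/-- The diagonal matrices. -/
def AA (F : Type) [Field F] [Fintype F] (q : ℕ) : Subgroup (SU 3 F q) := (T (Fin 3) F).subgroupOf (SU 3 F q)

theorem mem_AA {g : SU 3 F q} : g ∈ AA F q ↔ Mono 1 g.1 := Iff.rfl

/-- The monomial matrices over `1` and `(0 1)`. -/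
def PP (F : Type) [Field F] [Fintype F] (q : ℕ) : Subgroup (SU 3 F q) where
  carrier := {g | Mono 1 g.1 ∨ Mono (Equiv.swap 0 1) g.1}
  one_mem' := Or.inl mono_one
  mul_mem' := by
    rintro a b (ha | ha) (hb | hb)
    · left; have := ha.mul hb; rwa [mul_one] at this
    · right; have := ha.mul hb; rwa [one_mul] at this
    · right; have := ha.mul hb; rwa [mul_one] at this
    · left; have := ha.mul hb; rwa [Equiv.swap_mul_self] at this
  inv_mem' := by
    rintro a (ha | ha)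
    · left; have := Mono.inv ha; rwa [inv_one] at this
    · right; have := Mono.inv ha; rwa [Equiv.swap_inv] at this

theorem mem_PP {g : SU 3 F q} : g ∈ PP F q ↔ Mono 1 g.1 ∨ Mono (Equiv.swap 0 1) g.1 := Iff.rfl

/-- A diagonal element. -/
def dg (d : Fin 3 → F) (h : ∏ i, d i = 1) (hd : ∀ i, d i * d i ^ q = 1) : SU 3 F q :=
  ⟨⟨Matrix.diagonal d, by rw [Matrix.det_diagonal, h]⟩, by
    refine (mem_SU_iff _).2 fun u v => ?_
    rw [herm_def, herm_def]
    refine Finset.sum_congr rfl fun i _ => ?_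
    show Matrix.mulVec (Matrix.diagonal d) u i * (Matrix.mulVec (Matrix.diagonal d) v i) ^ q = _
    rw [Matrix.mulVec_diagonal, Matrix.mulVec_diagonal, mul_pow]
    linear_combination (u i * v i ^ q) * hd i⟩

theorem dg_mem (d : Fin 3 → F) (h : ∏ i, d i = 1) (hd : ∀ i, d i * d i ^ q = 1) : dg d h hd ∈ AA F q := by
  intro a b hab
  by_contra h0
  exact hab (Matrix.diagonal_apply_ne _ h0)

theorem norm_diag (hF : Fintype.card F = q ^ 2) {g : SU 3 F q} (hg : g ∈ AA F q) (i : Fin 3) :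
    g.1.1 i i * g.1.1 i i ^ q = 1 := by
  have h1 := (mem_SU_iff g.1).1 g.2 (Pi.single i 1) (Pi.single i 1)
  have hz := zero_pow_q hF
  have hd := eq_diagonal (mem_AA.1 hg)
  have e1 : ∀ k, Matrix.mulVec g.1.1 (Pi.single i 1) k = g.1.1 k i := by
    intro k
    rw [Matrix.mulVec_single_one, Matrix.col_apply]
  rw [herm_def, herm_def] at h1
  rw [Finset.sum_eq_single i, Finset.sum_eq_single i] at h1
  · show g.1.1 i i * g.1.1 i i ^ q = 1
    have h2 : Matrix.mulVec g.1.1 (Pi.single i 1) i * Matrix.mulVec g.1.1 (Pi.single i 1) i ^ q =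
      (Pi.single i 1 : Fin 3 → F) i * (Pi.single i 1 : Fin 3 → F) i ^ q := h1
    rw [e1, Pi.single_eq_same, one_pow, mul_one] at h2
    exact h2
  · intro b _ hb
    rw [Pi.single_eq_of_ne hb, zero_mul]
  · intro h; exact absurd (Finset.mem_univ _) h
  · intro b _ hb
    have h2 : Matrix.mulVec g.1.1 (Pi.single i 1) b = 0 := by
      rw [e1]; exact apply_of_mem_T (mem_AA.1 hg) hb
    show Matrix.mulVec g.1.1 (Pi.single i 1) b * Matrix.mulVec g.1.1 (Pi.single i 1) b ^ q = 0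
    rw [h2, zero_mul]
  · intro h; exact absurd (Finset.mem_univ _) h

theorem prod_diag {g : SU 3 F q} (hg : g ∈ AA F q) : g.1.1 0 0 * g.1.1 1 1 * g.1.1 2 2 = 1 := by
  have h1 := prod_eq_one (mem_AA.1 hg)
  rwa [Fin.prod_univ_three] at h1

theorem ext_diag {g k : SU 3 F q} (hg : g ∈ AA F q) (hk : k ∈ AA F q) (h0 : g.1.1 0 0 = k.1.1 0 0)
    (h1 : g.1.1 1 1 = k.1.1 1 1) : g = k := by
  have h2 : g.1.1 2 2 = k.1.1 2 2 := by
    have e1 := prod_diag hg
    have e2 := prod_diag hk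
    rw [h0, h1] at e1
    have h3 : k.1.1 0 0 * k.1.1 1 1 ≠ 0 := fun h => by rw [h, zero_mul] at e2; exact zero_ne_one e2
    exact mul_left_cancel₀ h3 (e1.trans e2.symm)
  apply Subtype.ext
  apply Subtype.ext
  rw [eq_diagonal (mem_AA.1 hg), eq_diagonal (mem_AA.1 hk)]
  congr 1
  funext i
  fin_cases i
  · exact h0
  · exact h1
  · exact h2

theorem diag_mul_apply {g : SU 3 F q} (hg : g ∈ AA F q) (m : SU 3 F q) (i j : Fin 3) :
    (g * m).1.1 i j = g.1.1 i i * m.1.1 i j := by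
  show (g.1.1 * m.1.1) i j = _
  rw [eq_diagonal (mem_AA.1 hg), Matrix.diagonal_mul]
  simp

theorem mul_diag_apply {g : SU 3 F q} (hg : g ∈ AA F q) (m : SU 3 F q) (i j : Fin 3) :
    (m * g).1.1 i j = m.1.1 i j * g.1.1 j j := by
  show (m.1.1 * g.1.1) i j = _
  rw [eq_diagonal (mem_AA.1 hg), Matrix.mul_diagonal]
  simp

theorem card_AA (hF : Fintype.card F = q ^ 2) : Nat.card (AA F q) = (q + 1) * (q + 1) := by
  rw [← card_norm_eq_one hF, ← Nat.card_prod]
  refine Nat.card_congr (Equiv.ofBijective (fun g : AA F q =>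
    ((⟨g.1.1.1 0 0, norm_diag hF g.2 0⟩, ⟨g.1.1.1 1 1, norm_diag hF g.2 1⟩) :
      {x : F // x * x ^ q = 1} × {x : F // x * x ^ q = 1})) ⟨?_, ?_⟩)
  · intro g k hgk
    have h1 := congrArg (fun z => z.1.1) hgk
    have h2 := congrArg (fun z => z.2.1) hgk
    exact Subtype.ext (ext_diag g.2 k.2 h1 h2)
  · rintro ⟨⟨x, hx⟩, ⟨y, hy⟩⟩
    have hx0 : x ≠ 0 := by rintro rfl; rw [zero_mul] at hx; exact zero_ne_one hx
    have hy0 : y ≠ 0 := by rintro rfl; rw [zero_mul] at hy; exact zero_ne_one hy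
    have hp : ∏ i, (![x, y, (x * y)⁻¹] : Fin 3 → F) i = 1 := by
      rw [Fin.prod_univ_three]
      show x * y * (x * y)⁻¹ = 1
      exact mul_inv_cancel₀ (mul_ne_zero hx0 hy0)
    have hn : ∀ i, (![x, y, (x * y)⁻¹] : Fin 3 → F) i * (![x, y, (x * y)⁻¹] : Fin 3 → F) i ^ q = 1 := by
      intro i
      fin_cases i
      · exact hx
      · exact hy
      · show (x * y)⁻¹ * (x * y)⁻¹ ^ q = 1
        rw [inv_pow, mul_pow, ← mul_inv]
        have : x * y * (x ^ q * y ^ q) = 1 := by linear_combination hx * (y * y ^ q) + hy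
        rw [this, inv_one]
    refine ⟨⟨dg _ hp hn, dg_mem _ hp hn⟩, ?_⟩
    refine Prod.ext (Subtype.ext ?_) (Subtype.ext ?_)
    · show Matrix.diagonal (![x, y, (x * y)⁻¹] : Fin 3 → F) 0 0 = x
      simp
    · show Matrix.diagonal (![x, y, (x * y)⁻¹] : Fin 3 → F) 1 1 = y
      simp

/-- The matrix `[0, 1; -1, 0]`. -/
def w2 (hF : Fintype.card F = q ^ 2) : SU 2 F q := ⟨⟨!![0, 1; -1, 0], by simp [Matrix.det_fin_two_of]⟩, by
  refine (Cfsg.Agent.S0281.mem_SU_two_iff hF _).2 ⟨?_, ?_⟩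
  · show (0 : F) ^ q = 0
    exact zero_pow_q hF
  · show (1 : F) ^ q = - -1
    rw [one_pow, neg_neg]⟩

theorem w_val (hF : Fintype.card F = q ^ 2) : (jj F q (w2 hF)).1.1 = !![0, 1, 0; -1, 0, 0; 0, 0, 1] := by
  rw [jj_val]
  ext i j
  fin_cases i <;> fin_cases j <;> simp [NN, w2]

theorem mono_w (hF : Fintype.card F = q ^ 2) : Mono (Equiv.swap 0 1) (jj F q (w2 hF)).1 := by
  intro a b hab
  rw [w_val] at hab
  fin_cases a <;> fin_cases b <;> first | rfl | (exfalso; apply hab; simp)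

/-- A generator of the norm one group. -/
theorem exists_gen (_hF : Fintype.card F = q ^ 2) : ∃ g : F, g * g ^ q = 1 ∧ ∀ x : F, x * x ^ q = 1 →
    ∃ k : ℤ, x = g ^ k := by
  classical
  let N : Subgroup Fˣ := (powMonoidHom (q + 1) : Fˣ →* Fˣ).ker
  obtain ⟨⟨g, hgN⟩, hg⟩ := IsCyclic.exists_generator (α := N)
  have hN : ∀ x : Fˣ, x ∈ N ↔ (x : F) * (x : F) ^ q = 1 := by
    intro x
    rw [MonoidHom.mem_ker, powMonoidHom_apply, ← pow_succ', Units.ext_iff, Units.val_pow_eq_pow_val,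
      Units.val_one]
  refine ⟨g, (hN g).1 hgN, fun x hx => ?_⟩
  have hx0 : x ≠ 0 := by rintro rfl; rw [zero_mul] at hx; exact zero_ne_one hx
  obtain ⟨k, hk⟩ := hg ⟨Units.mk0 x hx0, (hN _).2 hx⟩
  refine ⟨k, ?_⟩
  have h1 := congrArg (fun z : N => ((z : Fˣ) : F)) hk
  simpa using h1.symm

theorem zpow_apply {g : SU 3 F q} (hg : g ∈ AA F q) (k : ℤ) : (g ^ k).1.1 2 2 = g.1.1 2 2 ^ k := by
  have hn : ∀ m : ℕ, (g ^ m).1.1 2 2 = g.1.1 2 2 ^ m := by
    intro m
    induction m with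
    | zero => rw [pow_zero, pow_zero]; rfl
    | succ m ih => rw [pow_succ, mul_diag_apply hg, ih, pow_succ]
  rcases k with m | m
  · rw [Int.ofNat_eq_natCast, zpow_natCast, zpow_natCast, hn]
  · rw [zpow_negSucc, zpow_negSucc, ← hn]
    have h1 := mul_diag_apply (pow_mem hg (m + 1)) (g ^ (m + 1))⁻¹ 2 2
    rw [inv_mul_cancel] at h1
    have h2 : (1 : F) = ((g ^ (m + 1))⁻¹).1.1 2 2 * (g ^ (m + 1)).1.1 2 2 := h1
    exact eq_inv_of_mul_eq_one_left h2.symm

theorem isSLTwo (hF : Fintype.card F = q ^ 2) (hq : q % 2 = 1) : IsSLTwo (jj F q).range := by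
  obtain ⟨p, k, hp, -, hqk, hk⟩ := exists_prime_pow hF
  haveI : Fact p.Prime := ⟨hp⟩
  have hcard : Nat.card (GaloisField p k) = q := by rw [GaloisField.card p k hk.ne', hqk]
  haveI : Finite (GaloisField p k) := Nat.finite_of_card_ne_zero (by rw [hcard]; exact (q_pos hF).ne')
  haveI := Fintype.ofFinite (GaloisField p k)
  obtain ⟨e⟩ := Cfsg.Agent.S0281.result (K := GaloisField p k) hF (by rw [← Nat.card_eq_fintype_card, hcard])
  refine ⟨GaloisField p k, _, ‹_›, (jj F q).comp e.symm.toMonoidHom, ?_, ?_, ?_⟩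
  · rw [hcard]; exact Nat.odd_iff.2 hq
  · exact jj_injective.comp e.symm.injective
  · rw [MonoidHom.range_comp, MonoidHom.range_eq_top.2 e.symm.surjective, ← MonoidHom.range_eq_map]

theorem relindex (hF : Fintype.card F = q ^ 2) : Nat.card (PP F q) = 2 * ((q + 1) * (q + 1)) := by
  have hle : AA F q ≤ PP F q := fun g hg => Or.inl hg
  have h1 : ((AA F q).subgroupOf (PP F q)).index = 2 := by
    rw [Subgroup.index_eq_two_iff]
    refine ⟨⟨jj F q (w2 hF), Or.inr (mono_w hF)⟩, fun b => ?_⟩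
    rw [Subgroup.mem_subgroupOf, Subgroup.mem_subgroupOf]
    have key : ∀ g : SU 3 F q, Mono 1 g.1 → Mono (Equiv.swap 0 1) g.1 → False := by
      intro g hg hg'
      have h2 := Mono.apply_ne_zero hg 0
      have h3 := hg' _ _ h2
      revert h3
      decide
    rcases b.2 with hb | hb
    · right
      refine ⟨hb, fun h2 => ?_⟩
      have h3 := hb.mul (mono_w hF)
      rw [one_mul] at h3
      exact key ((b : SU 3 F q) * jj F q (w2 hF)) h2 h3
    · left
      have h3 := hb.mul (mono_w hF)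
      rw [Equiv.swap_mul_self] at h3
      exact ⟨h3, fun h2 => key _ h2 hb⟩
  have h2 := Subgroup.card_mul_index ((AA F q).subgroupOf (PP F q))
  rw [h1, Nat.card_congr (Subgroup.subgroupOfEquivOfLe hle).toEquiv, card_AA hF] at h2
  omega

theorem card_SU (hF : Fintype.card F = q ^ 2) : Nat.card (SU 3 F q) = q ^ 3 * (q ^ 2 - 1) * (q ^ 3 + 1) := by
  have h := Cfsg.Agent.S0278.result (F := F) hF 3 (by norm_num)
  rw [Finset.prod_range_succ, Finset.prod_range_succ, Finset.prod_range_one] at h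
  norm_num [Nat.even_iff] at h
  have hq := q_pos hF
  refine Nat.eq_of_mul_eq_mul_left (show 0 < q + 1 by omega) ?_
  rw [h]; ring

theorem index_odd (hF : Fintype.card F = q ^ 2) (hq : q % 4 = 3) : ¬ 2 ∣ (PP F q).index := by
  have h1 := Subgroup.card_mul_index (PP F q)
  rw [relindex hF, card_SU hF] at h1
  rintro ⟨k, hk⟩
  rw [hk] at h1
  obtain ⟨m, hm⟩ : ∃ m, q = 4 * m + 3 := ⟨q / 4, by omega⟩
  subst hm
  have h2 : (4 * m + 3) ^ 2 - 1 = (4 * m + 4) * (4 * m + 2) := by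
    rw [Nat.sub_eq_iff_eq_add (by nlinarith)]; ring
  have h3 : (4 * m + 3) ^ 3 + 1 = (4 * m + 4) * ((4 * m + 3) * (4 * m + 3) - (4 * m + 3) + 1) := by
    have h4 : (4 * m + 3) * (4 * m + 3) - (4 * m + 3) = (4 * m + 3) * (4 * m + 2) := by
      rw [Nat.sub_eq_iff_eq_add (by nlinarith)]; ring
    rw [h4]; ring
  have h4 : (4 * m + 3) * (4 * m + 3) - (4 * m + 3) = (4 * m + 3) * (4 * m + 2) := by
    rw [Nat.sub_eq_iff_eq_add (by nlinarith)]; ring
  rw [h2, h3, h4] at h1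
  have h5 : (4 * m + 4) * (4 * m + 4) * 2 * (2 * k) =
      (4 * m + 4) * (4 * m + 4) * 2 * ((4 * m + 3) ^ 3 * (2 * m + 1) * ((4 * m + 3) * (4 * m + 2) + 1)) := by
    calc (4 * m + 4) * (4 * m + 4) * 2 * (2 * k) = 2 * ((4 * m + 3 + 1) * (4 * m + 3 + 1)) * (2 * k) := by ring
      _ = _ := by rw [h1]; ring
  have h6 := Nat.eq_of_mul_eq_mul_left (by positivity) h5
  have h7 : (2 * k) % 2 = 1 := by
    rw [h6]
    have : Odd ((4 * m + 3) ^ 3 * (2 * m + 1) * ((4 * m + 3) * (4 * m + 2) + 1)) := by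
      refine Odd.mul (Odd.mul (Odd.pow ?_) ?_) ?_
      · exact ⟨2 * m + 1, by ring⟩
      · exact ⟨m, by ring⟩
      · exact ⟨(4 * m + 3) * (2 * m + 1), by ring⟩
    exact Nat.odd_iff.1 this
  omega

theorem wr (hF : Fintype.card F = q ^ 2) (hq : q % 4 = 3) : ∃ x : SU 3 F q,
    Wr (jj F q).range (AA F q) (PP F q) x (jj F q (w2 hF)) := by
  obtain ⟨g, hg, hgen⟩ := exists_gen hF
  have hg0 : g ≠ 0 := by rintro rfl; rw [zero_mul] at hg; exact zero_ne_one hg
  have hp : ∏ i, (![g, 1, g⁻¹] : Fin 3 → F) i = 1 := by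
    rw [Fin.prod_univ_three]
    show g * 1 * g⁻¹ = 1
    rw [mul_one, mul_inv_cancel₀ hg0]
  have hn : ∀ i, (![g, 1, g⁻¹] : Fin 3 → F) i * (![g, 1, g⁻¹] : Fin 3 → F) i ^ q = 1 := by
    intro i
    fin_cases i
    · exact hg
    · show (1 : F) * 1 ^ q = 1
      rw [one_pow, one_mul]
    · show g⁻¹ * g⁻¹ ^ q = 1
      rw [inv_pow, ← mul_inv, hg, inv_one]
  have hx : dg _ hp hn ∈ AA F q := dg_mem _ hp hn
  have hx2 : (dg _ hp hn).1.1 2 2 = g⁻¹ := by
    show Matrix.diagonal (![g, 1, g⁻¹] : Fin 3 → F) 2 2 = g⁻¹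
    simp
  refine ⟨dg _ hp hn, isSLTwo hF (by omega), ?_, ?_, hx, ?_, ⟨_, rfl⟩, ?_, fun g hg => Or.inl hg,
    Or.inr (mono_w hF), ?_, ?_, index_odd hF hq⟩
  · intro y hy z hz
    apply Subtype.ext
    apply Subtype.ext
    ext i j
    rw [diag_mul_apply hy, mul_diag_apply hy]
    by_cases hij : i = j
    · subst hij; ring
    · rw [apply_of_mem_T (mem_AA.1 hz) hij]; ring
  · intro y hy d hd'
    obtain ⟨h1, h2, h3, h4, h5⟩ := mem_range_jj.1 hd'
    have hyi := inv_mem hy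
    refine mem_range_jj.2 ⟨?_, ?_, ?_, ?_, ?_⟩
    · rw [mul_diag_apply hyi, diag_mul_apply hy, h1]; ring
    · rw [mul_diag_apply hyi, diag_mul_apply hy, h2]; ring
    · rw [mul_diag_apply hyi, diag_mul_apply hy, h3]; ring
    · rw [mul_diag_apply hyi, diag_mul_apply hy, h4]; ring
    · rw [mul_diag_apply hyi, diag_mul_apply hy, h5, mul_one, ← diag_mul_apply hy, mul_inv_cancel]; rfl
  · intro y hy
    obtain ⟨k, hk⟩ := hgen _ (norm_diag hF hy 2)
    refine ⟨k, mem_range_jj.2 ?_⟩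
    have hxk := zpow_mem hx k
    have hyx := mul_mem hy hxk
    refine ⟨apply_of_mem_T (mem_AA.1 hyx) (by decide), apply_of_mem_T (mem_AA.1 hyx) (by decide),
      apply_of_mem_T (mem_AA.1 hyx) (by decide), apply_of_mem_T (mem_AA.1 hyx) (by decide), ?_⟩
    rw [diag_mul_apply hy, zpow_apply hx, hx2, hk, _root_.inv_zpow]
    exact mul_inv_cancel₀ (zpow_ne_zero k hg0)
  · intro y hy
    have h1 := ((mono_w hF).mul (mem_AA.1 hy)).mul (Mono.inv (mono_w hF))
    rwa [mul_one, mul_inv_cancel] at h1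
  · intro s hs
    rcases hs with hs | hs
    · exact Or.inl hs
    · right
      refine ⟨s * (jj F q (w2 hF))⁻¹, ?_, by group⟩
      have h1 := hs.mul (Mono.inv (mono_w hF))
      rwa [mul_inv_cancel] at h1
  · intro y hy hyw d hd'
    obtain ⟨h1, h2, h3, h4, h5⟩ := mem_range_jj.1 hd'
    have h6 : y.1.1 0 0 = y.1.1 1 1 := by
      have h7 : (y * jj F q (w2 hF)).1.1 0 1 = (jj F q (w2 hF) * y).1.1 0 1 := by rw [hyw]
      rw [diag_mul_apply hy, mul_diag_apply hy, w_val] at h7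
      simpa using h7
    apply Subtype.ext
    apply Subtype.ext
    ext i j
    rw [diag_mul_apply hy, mul_diag_apply hy]
    fin_cases i <;> fin_cases j <;> simp [h1, h2, h3, h4, h5, h6, mul_comm]

/-- **`SU(3, q)`, `q ≡ 3 mod 4`, has no perfect double cover.** -/
theorem noDouble_SU (hF : Fintype.card F = q ^ 2) (hq : q % 4 = 3) : NoDouble (SU 3 F q) := by
  obtain ⟨x, h⟩ := wr hF hq
  exact h.noDouble

/-- **`U₃(3)`** -/
theorem noDouble_U33 (hF : Fintype.card F = 9) : NoDouble (PSU 3 F 3) := by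
  have hF' : Fintype.card F = 3 ^ 2 := hF
  have hc := Cfsg.Agent.S0279.result (F := F) hF' 3 le_rfl
  have hcb : Subgroup.center (SU 3 F 3) = ⊥ := Subgroup.card_eq_one.1 (hc.trans (by decide))
  refine (noDouble_SU hF' (by decide)).congr
    (MulEquiv.ofBijective (QuotientGroup.mk' (Subgroup.center (SU 3 F 3))) ⟨?_, QuotientGroup.mk'_surjective _⟩)
  rw [← MonoidHom.ker_eq_bot_iff, QuotientGroup.ker_mk', hcb]

end Cfsg.Agent.KFacts.MulOdd.UThree
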